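import Cfsg.Agent.H999.FC.Sing

/-!
# S5764, symplectic groups of dimension 4: the action on the five singular lines  (helper999)
-/

set_option autoImplicit false

namespace Cfsg.Agent.H999.FC

open Cfsg.Agent.H198.FC

universe u v

variable {K : Type u} [Field K] {V : Type v} [AddCommGroup V] [Module K V]

namespace Dat

variable {b : Cl K V} {S A : Subgroup (Equiv.Perm (R K V))} {e : Fin 5 → R K V}

theorem exists_ne' (i : Fin 5) : ∃ j : Fin 5, i ≠ j := by
  revert i
  decide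

theorem e_not_Sc (h : Dat b S A) (p : Pre b A e) (i : Fin 5) : ¬ Sc (e i) := by
  obtain ⟨j, hj⟩ := exists_ne' i
  exact h.not_Sc_of_anti (p.lift i) (p.lift j) (p.anti j i hj.symm)

theorem sing (h : Dat b S A) (p : Pre b A e) {X : R K V} (hX : L A X) (sX : ¬ Sc X) (aX : b.Adj X X) :
    ∃ i, ∃ c : K, X = c • e i := by
  by_contra hcon
  push Not at hcon
  have h1 : ∀ i, X * e i = -(e i * X) := by
    intro i
    rcases h.L_comm hX (p.lift i) with h3 | h3
    · rcases h.claim (p.lift i) hX (h.e_not_Sc p i) (p.adj i) aX h3.symm with h4 | ⟨c, hc⟩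
      · exact absurd h4 sX
      · exact absurd hc (hcon i c)
    · exact h3
  obtain ⟨κ, hκ, hprod⟩ := p.prod
  have h3 : X * (e 0 * e 1 * e 2 * e 3 * e 4) = -(e 0 * e 1 * e 2 * e 3 * e 4 * X) := by
    simp only [mul_assoc, assoc_neg (h1 _), h1, mul_neg, neg_neg]
  rw [hprod, mul_smul_comm, mul_one, smul_mul_assoc, one_mul] at h3
  have h4 : (2 * κ) • X = 0 := by
    rw [mul_smul, two_smul]
    nth_rewrite 1 [h3]
    rw [neg_add_cancel]
  rcases smul_eq_zero.1 h4 with h5 | h5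
  · exact mul_ne_zero h.two hκ h5
  · exact h.L_ne hX h5

theorem e_ne (h : Dat b S A) (p : Pre b A e) (i : Fin 5) : e i ≠ 0 := h.L_ne (p.lift i)

theorem e_unique (h : Dat b S A) (p : Pre b A e) {i j : Fin 5} {c d : K} (h0 : c • e i ≠ 0)
    (h1 : c • e i = d • e j) : i = j := by
  by_contra hij
  have hd : d ≠ 0 := by
    rintro rfl
    rw [zero_smul] at h1
    exact h0 h1
  have h3 : (c • e i) * e i = e i * (c • e i) := by rw [smul_mul_assoc, mul_smul_comm]
  rw [h1, smul_mul_assoc, mul_smul_comm] at h3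
  have h4 := smul_right_injective _ hd h3
  exact h.not_both (p.lift j) (p.lift i) h4 (p.anti j i fun h => hij h.symm)

theorem f_ne {f : Equiv.Perm (R K V)} (hf : f ∈ RP K V) {X : R K V} (hX : X ≠ 0) : f X ≠ 0 := by
  intro h
  rw [← RP_zero hf] at h
  exact hX (f.injective h)

theorem image (h : Dat b S A) (p : Pre b A e) {f : Equiv.Perm (R K V)} (hf : f ∈ S) (i : Fin 5) :
    ∃ j, ∃ d : K, f (e i) = d • e j := by
  have hfP := (h.SRB hf).1
  refine h.sing p (h.L_f hf (p.lift i)) ?_ (((h.SRB hf).2 _ _).1 (p.adj i))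
  intro hs
  obtain ⟨j, hj⟩ := exists_ne' i
  have h1 := Sc_comm hs (f (e j))
  rw [← hfP.2, ← hfP.2] at h1
  exact h.not_both (p.lift i) (p.lift j) (f.injective h1) (p.anti i j hj)

theorem perm (h : Dat b S A) (p : Pre b A e) {f : Equiv.Perm (R K V)} (hf : f ∈ S) :
    ∃ π : Equiv.Perm (Fin 5), ∀ i, ∃ d : K, f (e i) = d • e (π i) := by
  have hfP := (h.SRB hf).1
  choose j hj using fun i => h.image p hf i
  have hinj : Function.Injective j := by
    intro i i' hii
    by_contra hne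
    obtain ⟨d, hd⟩ := hj i
    obtain ⟨d', hd'⟩ := hj i'
    have h1 : f (e i) * f (e i') = f (e i') * f (e i) := by
      rw [hd, hd', hii, smul_mul_assoc, mul_smul_comm, smul_mul_assoc, mul_smul_comm, smul_comm]
    rw [← hfP.2, ← hfP.2] at h1
    exact h.not_both (p.lift i) (p.lift i') (f.injective h1) (p.anti i i' hne)
  exact ⟨Equiv.ofBijective j (Finite.injective_iff_bijective.1 hinj), hj⟩

theorem perm_unique (h : Dat b S A) (p : Pre b A e) {f : Equiv.Perm (R K V)} (hf : f ∈ RP K V)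
    {π π' : Equiv.Perm (Fin 5)} (hπ : ∀ i, ∃ d : K, f (e i) = d • e (π i)) (hπ' : ∀ i, ∃ d : K, f (e i) = d • e (π' i)) :
    π = π' := by
  ext1 i
  obtain ⟨d, hd⟩ := hπ i
  obtain ⟨d', hd'⟩ := hπ' i
  refine h.e_unique p (c := d) (d := d') ?_ ?_
  · rw [← hd]; exact f_ne hf (h.e_ne p i)
  · rw [← hd, ← hd']

/-- the element of `A` belonging to `e_k e_l` -/
theorem pair_elt (p : Pre b A e) (k l : Fin 5) (hkl : k ≠ l) : ∃ g ∈ A, (∀ i, i ≠ k → i ≠ l → g (e i) = e i) ∧
    g (e k) = -e k := by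
  obtain ⟨x, hx, hxA⟩ := L_mul (p.lift k) (p.lift l)
  refine ⟨cj K V x, hxA, ?_, ?_⟩
  · intro i hik hil
    have h1 : (x : R K V) * e i = e i * x := by
      rw [hx, mul_assoc, p.anti l i hil.symm, mul_neg, ← mul_assoc, p.anti k i hik.symm, neg_mul, neg_neg, mul_assoc]
    rw [cj_apply, h1, mul_assoc, Units.mul_inv, mul_one]
  · have h1 : (x : R K V) * e k = -(e k * x) := by
      rw [hx, mul_assoc, p.anti l k hkl.symm, mul_neg]
    rw [cj_apply, h1, neg_mul, mul_assoc, Units.mul_inv, mul_one]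

theorem cj_lin {g : Equiv.Perm (R K V)} (hg : g ∈ IN K V) (c : K) (X : R K V) : g (c • X) = c • g X := by
  obtain ⟨x, rfl⟩ := hg
  rw [cj_apply, cj_apply, mul_smul_comm, smul_mul_assoc]

theorem no_inv (h : Dat b S A) (p : Pre b A e) (O : Fin 5 → Prop)
    (hO : ∀ f ∈ S, ∀ i, O i → ∀ j, ∀ d : K, f (e i) = d • e j → O j) {i k l : Fin 5} (hi : O i) (hk : ¬ O k)
    (hl : ¬ O l) (hkl : k ≠ l) : False := by
  let B : Subgroup (Equiv.Perm (R K V)) :=
    { carrier := {g | g ∈ A ∧ ∀ j, O j → g (e j) = e j}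
      one_mem' := ⟨A.one_mem, fun _ _ => rfl⟩
      mul_mem' := fun {g g'} hg hg' => ⟨A.mul_mem hg.1 hg'.1, fun j hj => by
        rw [Equiv.Perm.mul_apply, hg'.2 j hj, hg.2 j hj]⟩
      inv_mem' := fun {g} hg => ⟨A.inv_mem hg.1, fun j hj => by
        rw [Equiv.Perm.inv_eq_iff_eq]
        exact (hg.2 j hj).symm⟩ }
  have hBA : B ≤ A := fun g hg => hg.1
  have hBn : ∀ f ∈ S, ∀ g ∈ B, f * g * f⁻¹ ∈ B := by
    rintro f hf g ⟨hg, hgO⟩
    refine ⟨h.norm f hf g hg, fun j hj => ?_⟩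
    obtain ⟨m, d, hd⟩ := h.image p (S.inv_mem hf) j
    have hm := hO _ (S.inv_mem hf) j hj m d hd
    have h1 : f (d • e m) = e j := by
      rw [← hd]
      exact Equiv.apply_symm_apply f _
    rw [Equiv.Perm.mul_apply, Equiv.Perm.mul_apply, hd, cj_lin (h.AIN hg), hgO m hm, h1]
  rcases h.min B hBA hBn with hB | hB
  · obtain ⟨g, hg, hg1, hg2⟩ := pair_elt p k l hkl
    have hgB : g ∈ B := ⟨hg, fun j hj => hg1 j (by rintro rfl; exact hk hj) (by rintro rfl; exact hl hj)⟩
    rw [hB, Subgroup.mem_bot] at hgB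
    rw [hgB, Equiv.Perm.one_apply] at hg2
    have h3 : (2 : K) • e k = 0 := by
      rw [two_smul]
      nth_rewrite 1 [hg2]
      rw [neg_add_cancel]
    rcases smul_eq_zero.1 h3 with h4 | h4
    · exact h.two h4
    · exact h.e_ne p k h4
  · have hik : i ≠ k := by rintro rfl; exact hk hi
    obtain ⟨g, hg, hg1, hg2⟩ := pair_elt p i k hik
    rw [← hB] at hg
    have hg3 := hg.2 i hi
    rw [hg3] at hg2
    have h3 : (2 : K) • e i = 0 := by
      rw [two_smul]
      nth_rewrite 1 [hg2]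
      rw [neg_add_cancel]
    rcases smul_eq_zero.1 h3 with h4 | h4
    · exact h.two h4
    · exact h.e_ne p i h4

theorem trans (h : Dat b S A) (p : Pre b A e) (i j : Fin 5) : ∃ f ∈ S, ∃ d : K, f (e i) = d • e j := by
  by_contra hcon
  push Not at hcon
  -- the orbit of `i`
  let O : Fin 5 → Prop := fun k => ∃ f ∈ S, ∃ d : K, f (e i) = d • e k
  have hOi : O i := ⟨1, S.one_mem, 1, by rw [one_smul, Equiv.Perm.one_apply]⟩
  have hOj : ¬ O j := fun ⟨f, hf, d, hd⟩ => hcon f hf d hd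
  have hO : ∀ f ∈ S, ∀ k, O k → ∀ l, ∀ d : K, f (e k) = d • e l → O l := by
    rintro f hf k ⟨g, hg, c, hc⟩ l d hd
    have := h.nontriv
    obtain ⟨σ, hσ⟩ := exists_sigma' (h.SRB hf).1
    exact ⟨f * g, S.mul_mem hf hg, σ c * d, by rw [Equiv.Perm.mul_apply, hc, hσ, hd, smul_smul]⟩
  by_cases hex : ∃ l, l ≠ j ∧ ¬ O l
  · obtain ⟨l, hlj, hl⟩ := hex
    exact h.no_inv p O hO hOi hOj hl hlj.symm
  · push Not at hex
    -- the complement is `{j}`
    have hO' : ∀ f ∈ S, ∀ k, k = j → ∀ l, ∀ d : K, f (e k) = d • e l → l = j := by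
      rintro f hf k rfl l d hd
      by_contra hlk
      have h1 := hex l hlk
      have := h.nontriv
      obtain ⟨σ, hσ⟩ := exists_sigma' (h.SRB (S.inv_mem hf)).1
      have hd0 : d ≠ 0 := by
        rintro rfl
        rw [zero_smul] at hd
        exact f_ne (h.SRB hf).1 (h.e_ne p k) hd
      have h3 : f⁻¹ (e l) = (σ d)⁻¹ • e k := by
        have h4 : f⁻¹ (d • e l) = e k := by
          rw [← hd]
          exact Equiv.symm_apply_apply f _
        rw [hσ] at h4
        rw [← h4, smul_smul, inv_mul_cancel₀ (by simpa using hd0), one_smul]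
      exact hOj (hO _ (S.inv_mem hf) l h1 k _ h3)
    obtain ⟨k, hk1, hk2, -, -⟩ := exists_out j j j j
    obtain ⟨l, hl1, hl2, -, -⟩ := exists_out j k j j
    exact h.no_inv p (fun k => k = j) hO' (i := j) rfl hk1 hl1 (fun h => hl2 h.symm)

/-- the permutation representation -/
noncomputable def phi (h : Dat b S A) (p : Pre b A e) : S →* Equiv.Perm (Fin 5) where
  toFun f := Classical.choose (h.perm p f.2)
  map_one' := h.perm_unique p (one_mem _) (Classical.choose_spec (h.perm p (1 : S).2))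
    fun i => ⟨1, by rw [one_smul]; rfl⟩
  map_mul' f g := by
    refine h.perm_unique p (h.SRB (f * g).2).1 (Classical.choose_spec (h.perm p (f * g).2)) fun i => ?_
    have := h.nontriv
    obtain ⟨σ, hσ⟩ := exists_sigma' (h.SRB f.2).1
    obtain ⟨d, hd⟩ := Classical.choose_spec (h.perm p g.2) i
    obtain ⟨c, hc⟩ := Classical.choose_spec (h.perm p f.2) (Classical.choose (h.perm p g.2) i)
    refine ⟨σ d * c, ?_⟩
    rw [Subgroup.coe_mul, Equiv.Perm.mul_apply, hd, hσ, hc, smul_smul]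
    rfl

theorem phi_spec (h : Dat b S A) (p : Pre b A e) (f : S) (i : Fin 5) : ∃ d : K, (f : Equiv.Perm (R K V)) (e i) =
    d • e (h.phi p f i) := Classical.choose_spec (h.perm p f.2) i

theorem no_swap (h : Dat b S A) (p : Pre b A e) (hsol : Group.IsSolvable S) {f : Equiv.Perm (R K V)} (hf : f ∈ S)
    {π : Equiv.Perm (Fin 5)} (hπ : ∀ i, ∃ d : K, f (e i) = d • e (π i)) (h0 : π 0 = 0) (h1 : π 1 = 1)
    (h2 : π 2 = 2) : π = 1 := by
  classical
  have hφ : h.phi p ⟨f, hf⟩ = π := h.perm_unique p (h.SRB hf).1 (h.phi_spec p ⟨f, hf⟩) hπ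
  have hcases : π = 1 ∨ π = Equiv.swap 3 4 := by
    have key : ∀ a b : Fin 5, a ≠ b → a ≠ 0 → a ≠ 1 → a ≠ 2 → b ≠ 0 → b ≠ 1 → b ≠ 2 →
        (a = 3 ∧ b = 4) ∨ (a = 4 ∧ b = 3) := by decide
    have hne : ∀ i j : Fin 5, i ≠ j → π i ≠ π j := fun i j hij h => hij (π.injective h)
    rcases key (π 3) (π 4) (hne _ _ (by decide)) (fun h => hne 3 0 (by decide) (h.trans h0.symm))
      (fun h => hne 3 1 (by decide) (h.trans h1.symm)) (fun h => hne 3 2 (by decide) (h.trans h2.symm))
      (fun h => hne 4 0 (by decide) (h.trans h0.symm)) (fun h => hne 4 1 (by decide) (h.trans h1.symm))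
      (fun h => hne 4 2 (by decide) (h.trans h2.symm)) with ⟨h3, h4⟩ | ⟨h3, h4⟩
    · left
      apply Equiv.ext
      intro i
      fin_cases i
      · exact h0
      · exact h1
      · exact h2
      · exact h3
      · exact h4
    · right
      apply Equiv.ext
      intro i
      fin_cases i
      · exact h0.trans (by decide)
      · exact h1.trans (by decide)
      · exact h2.trans (by decide)
      · exact h3.trans (by decide)
      · exact h4.trans (by decide)
  rcases hcases with h3 | h3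
  · exact h3
  exfalso
  let H := (h.phi p).range
  have htr : MulAction.IsPretransitive H (Fin 5) := by
    refine (MulAction.isPretransitive_iff_base (0 : Fin 5)).2 fun j => ?_
    obtain ⟨g, hg, d, hd⟩ := h.trans p 0 j
    refine ⟨⟨h.phi p ⟨g, hg⟩, ⟨_, rfl⟩⟩, ?_⟩
    change h.phi p ⟨g, hg⟩ 0 = j
    obtain ⟨c, hc⟩ := h.phi_spec p ⟨g, hg⟩ 0
    refine h.e_unique p (c := c) (d := d) ?_ ?_
    · rw [← hc]; exact f_ne (h.SRB hg).1 (h.e_ne p 0)
    · rw [← hc]; exact hd
  have hdvd : Fintype.card (Fin 5) ∣ Fintype.card H := by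
    have h4 := MulAction.index_stabilizer_of_transitive H (0 : Fin 5)
    have h5 := (MulAction.stabilizer H (0 : Fin 5)).index_dvd_card
    rw [h4, Nat.card_eq_fintype_card, Nat.card_eq_fintype_card] at h5
    exact h5
  have htop : H = ⊤ := Equiv.Perm.subgroup_eq_top_of_swap_mem (τ := Equiv.swap (3 : Fin 5) 4)
    (by rw [Fintype.card_fin]; norm_num) hdvd ⟨⟨f, hf⟩, by rw [hφ, h3]⟩ ⟨3, 4, by decide, rfl⟩
  have hsurj : Function.Surjective (h.phi p) := MonoidHom.range_eq_top.1 htop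
  have := hsol
  exact Equiv.Perm.not_isSolvable_fin_5 (Group.isSolvable_of_surjective hsurj)

end Dat

end Cfsg.Agent.H999.FC
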