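import Cfsg.Agent.H999.FC.Lift

/-!
# S5764, symplectic groups of dimension 4: commuting self-adjoint elements  (helper999)
-/

set_option autoImplicit false

namespace Cfsg.Agent.H999.FC

open Cfsg.Agent.H198.FC

universe u v

variable {K : Type u} [Field K] {V : Type v} [AddCommGroup V] [Module K V]

namespace Dat

variable {b : Cl K V} {S A : Subgroup (Equiv.Perm (R K V))}

theorem four (h : Dat b S A) : (4 : K) ≠ 0 := by
  have : (4 : K) = 2 * 2 := by norm_num
  rw [this]
  exact mul_ne_zero h.two h.two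

theorem trace_one (h : Dat b S A) : LinearMap.trace K V (1 : R K V) = 4 := by
  have := h.finV
  rw [LinearMap.trace_one, h.dim]
  norm_num

theorem Sc_mul {X Y : R K V} (hX : Sc X) (hY : Sc Y) : Sc (X * Y) := by
  obtain ⟨c, rfl⟩ := hX
  obtain ⟨d, rfl⟩ := hY
  exact ⟨c * d, by rw [smul_mul_assoc, one_mul, smul_smul]⟩

theorem Sc_smul {X : R K V} (c : K) (hX : Sc X) : Sc (c • X) := by
  obtain ⟨d, rfl⟩ := hX
  exact ⟨c * d, by rw [smul_smul]⟩

theorem Sc_comm {X : R K V} (hX : Sc X) (Y : R K V) : X * Y = Y * X := by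
  obtain ⟨c, rfl⟩ := hX
  rw [smul_mul_assoc, one_mul, mul_smul_comm, mul_one]

/-- `T X = - X T` and `T X = X T` is impossible -/
theorem not_both (h : Dat b S A) {X Y : R K V} (hX : L A X) (hY : L A Y) (h1 : X * Y = Y * X) (h3 : X * Y = -(Y * X)) :
    False := by
  have h4 : (2 : K) • (Y * X) = 0 := by
    rw [two_smul]
    nth_rewrite 1 [← h1]
    rw [h3, neg_add_cancel]
  rcases smul_eq_zero.1 h4 with h5 | h5
  · exact h.two h5
  · exact h.L_ne (L_mul hY hX) h5

theorem lin4 (h : Dat b S A) {X Z : R K V} (hX : L A X) (hZ : L A Z) (sX : ¬ Sc X) (sZ : ¬ Sc Z) (sXZ : ¬ Sc (X * Z))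
    (hc : X * Z = Z * X) {p q r s : K} (h0 : p • (1 : R K V) + q • X + r • Z + s • (X * Z) = 0) :
    p = 0 ∧ r = 0 ∧ s = 0 := by
  obtain ⟨ν, hν, hXX⟩ := h.L_sq hX
  obtain ⟨ξ, hξ, hZZ⟩ := h.L_sq hZ
  have tX := h.trace_zero hX sX
  have tZ := h.trace_zero hZ sZ
  have tXZ := h.trace_zero (L_mul hX hZ) sXZ
  have t1 := h.trace_one
  have h4 := h.four
  refine ⟨?_, ?_, ?_⟩
  · have h1 := congrArg (LinearMap.trace K V) h0
    simp only [map_add, map_smul, smul_eq_mul, tX, tZ, tXZ, t1, mul_zero, add_zero, map_zero] at h1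
    exact (mul_eq_zero.1 h1).resolve_right h4
  · have h1 : p • Z + q • (X * Z) + (r * ξ) • (1 : R K V) + (s * ξ) • X = 0 := by
      have := congrArg (fun Y => Y * Z) h0
      simp only [add_mul, smul_mul_assoc, one_mul, zero_mul, mul_assoc, hZZ, mul_smul_comm, mul_one, smul_smul] at this
      exact this
    have h3 := congrArg (LinearMap.trace K V) h1
    simp only [map_add, map_smul, smul_eq_mul, tX, tZ, tXZ, t1, mul_zero, add_zero, zero_add, map_zero] at h3
    exact (mul_eq_zero.1 ((mul_eq_zero.1 h3).resolve_right h4)).resolve_right hξ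
  · have e1 : X * Z * (Z * X) = (ν * ξ) • (1 : R K V) := by
      rw [mul_assoc, ← mul_assoc Z, hZZ, smul_mul_assoc, one_mul, mul_smul_comm, hXX, smul_smul, mul_comm]
    have e2 : Z * (Z * X) = ξ • X := by rw [← mul_assoc, hZZ, smul_mul_assoc, one_mul]
    have e3 : X * (Z * X) = ν • Z := by rw [← hc, ← mul_assoc, hXX, smul_mul_assoc, one_mul]
    have h1 : p • (X * Z) + (q * ν) • Z + (r * ξ) • X + (s * (ν * ξ)) • (1 : R K V) = 0 := by
      have := congrArg (fun Y => Y * (Z * X)) h0
      simp only [add_mul, smul_mul_assoc, one_mul, zero_mul, e1, e2, e3, smul_smul] at this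
      rw [← hc] at this
      exact this
    have h3 := congrArg (LinearMap.trace K V) h1
    simp only [map_add, map_smul, smul_eq_mul, tX, tZ, tXZ, t1, mul_zero, add_zero, zero_add, map_zero] at h3
    exact (mul_eq_zero.1 ((mul_eq_zero.1 h3).resolve_right h4)).resolve_right (mul_ne_zero hν hξ)

theorem ti_mem (h : Dat b S A) {u v w : V} (hli : LinearIndependent K ![u, v]) (huv : b.B u v = 0)
    (huw : b.B u w = 0) (hvw : b.B v w = 0) : ∃ α β : K, w = α • u + β • v := by
  have := h.finV
  let B := bil b h.sp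
  let U : Submodule K V := Submodule.span K {u, v}
  let W : Submodule K V := Submodule.span K {u, v, w}
  have hU : Module.finrank K U = 2 := by
    have h1 := finrank_span_eq_card hli
    rw [Fintype.card_fin] at h1
    have : Set.range ![u, v] = {u, v} := by
      simp [Matrix.range_cons, Matrix.range_empty, Set.pair_comm v u]
    rw [this] at h1
    exact h1
  have hzero : ∀ x ∈ ({u, v, w} : Set V), ∀ y ∈ ({u, v, w} : Set V), b.B x y = 0 := by
    intro x hx y hy
    have s1 := h.B_symm v u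
    have s2 := h.B_symm w u
    have s3 := h.B_symm w v
    rw [huv, neg_zero] at s1
    rw [huw, neg_zero] at s2
    rw [hvw, neg_zero] at s3
    simp only [Set.mem_insert_iff, Set.mem_singleton_iff] at hx hy
    rcases hx with rfl | rfl | rfl <;> rcases hy with rfl | rfl | rfl <;> first | assumption | exact h.sp.2 _
  have hWW : W ≤ B.orthogonal W := by
    rw [Submodule.span_le]
    intro y hy
    rw [SetLike.mem_coe, LinearMap.BilinForm.mem_orthogonal_iff]
    intro x hx
    change b.B x y = 0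
    refine Submodule.span_induction (p := fun x _ => b.B x y = 0) (fun x hx => hzero x hx y hy)
      (B_zero_left b y) (fun x x' _ _ h1 h3 => by rw [b.add_left, h1, h3, add_zero])
      (fun c x _ h1 => by rw [b.smul_left, h1, mul_zero]) hx
  have hnd : B.Nondegenerate := by
    refine ⟨fun x hx => b.nondeg x hx, fun y hy => b.nondeg y fun x => ?_⟩
    rw [h.B_symm]
    have := hy x
    change b.B x y = 0 at this
    rw [this, neg_zero]
  have h1 := Submodule.finrank_mono hWW
  rw [LinearMap.BilinForm.finrank_orthogonal hnd, h.dim] at h1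
  have hUW : U ≤ W := Submodule.span_mono (by
    intro x hx
    simp only [Set.mem_insert_iff, Set.mem_singleton_iff] at hx ⊢
    tauto)
  have h3 : U = W := Submodule.eq_of_le_of_finrank_le hUW (by omega)
  have h4 : w ∈ U := by
    rw [h3]
    exact Submodule.subset_span (by simp)
  obtain ⟨α, β, hαβ⟩ := Submodule.mem_span_pair.1 h4
  exact ⟨α, β, hαβ.symm⟩

/-- **Claim 1**: two commuting self-adjoint elements of `A^`, the first one not scalar: the second one is scalar or a
multiple of the first one. -/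
theorem claim (h : Dat b S A) {X Z : R K V} (hX : L A X) (hZ : L A Z) (sX : ¬ Sc X) (hXX : b.Adj X X)
    (hZZ : b.Adj Z Z) (hc : X * Z = Z * X) : Sc Z ∨ ∃ c : K, Z = c • X := by
  have := h.nontriv
  have := h.finV
  by_contra hcon
  push Not at hcon
  obtain ⟨sZ, hZX⟩ := hcon
  obtain ⟨ν, hν, hX2⟩ := h.L_sq hX
  obtain ⟨ξ, hξ, hZ2⟩ := h.L_sq hZ
  have sXZ : ¬ Sc (X * Z) := by
    rintro ⟨c, hcc⟩
    apply hZX (ν⁻¹ * c)
    have : ν • Z = c • X := by
      rw [← one_mul Z, ← smul_mul_assoc, ← hX2, mul_assoc, hcc, mul_smul_comm, mul_one]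
    rw [mul_smul, ← this, smul_smul, inv_mul_cancel₀ hν, one_smul]
  obtain ⟨v, hv⟩ : ∃ v, LinearIndependent K ![v, X v] := by
    by_contra hcon
    push Not at hcon
    exact sX (LinearMap.exists_eq_smul_id_of_forall_notLinearIndependent hcon)
  have hXZadj : b.Adj (X * Z) (X * Z) := by
    have := adj_mul hXX hZZ
    rwa [← hc] at this
  have o1 : b.B v (X v) = 0 := h.self_zero hXX v
  have o2 : b.B v (Z v) = 0 := h.self_zero hZZ v
  have o3 : b.B (X v) (Z v) = 0 := by
    rw [hXX, ← Module.End.mul_apply]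
    exact h.self_zero hXZadj v
  obtain ⟨α, β, hαβ⟩ := h.ti_mem hv o1 o2 o3
  -- `Z' = Z - α - β X` kills `v` and `X v`
  obtain ⟨Z', hZ'⟩ : ∃ Z' : R K V, Z' = Z + (-α) • (1 : R K V) + (-β) • X := ⟨_, rfl⟩
  have k1 : Z' v = 0 := by
    rw [hZ', LinearMap.add_apply, LinearMap.add_apply, LinearMap.smul_apply, LinearMap.smul_apply,
      Module.End.one_apply, hαβ]
    module
  have kc : Z' * X = X * Z' := by
    rw [hZ', add_mul, add_mul, mul_add, mul_add, hc, smul_mul_assoc, one_mul, mul_smul_comm, mul_one, smul_mul_assoc,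
      mul_smul_comm]
  have k3 : Z' (X v) = 0 := by
    rw [← Module.End.mul_apply, kc, Module.End.mul_apply, k1, map_zero]
  have kadj : b.Adj Z' Z' := by
    rw [hZ']
    exact adj_add (adj_add hZZ (adj_smul h.sp _ (adj_one b))) (adj_smul h.sp _ hXX)
  have k4 : Z' * Z' = 0 := by
    ext w
    rw [Module.End.mul_apply, LinearMap.zero_apply]
    have p1 : b.B v (Z' w) = 0 := by rw [← kadj, k1, B_zero_left]
    have p2 : b.B (X v) (Z' w) = 0 := by rw [← kadj, k3, B_zero_left]
    obtain ⟨γ, δ, hγ⟩ := h.ti_mem hv o1 p1 p2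
    rw [hγ, map_add, map_smul, map_smul, k1, k3, smul_zero, smul_zero, add_zero]
  have k5 : (ξ + α * α + β * β * ν) • (1 : R K V) + (2 * α * β) • X + (-2 * α) • Z + (-2 * β) • (X * Z) = 0 := by
    rw [← k4, hZ']
    simp only [add_mul, mul_add, smul_mul_assoc, mul_smul_comm, one_mul, mul_one, smul_smul, hX2, hZ2, ← hc]
    module
  obtain ⟨k6, k7, k8⟩ := h.lin4 hX hZ sX sZ sXZ hc k5
  have hα : α = 0 := by
    have : 2 * α = 0 := by linear_combination -k7
    exact (mul_eq_zero.1 this).resolve_left h.two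
  have hβ : β = 0 := by
    have : 2 * β = 0 := by linear_combination -k8
    exact (mul_eq_zero.1 this).resolve_left h.two
  rw [hα, hβ] at k6
  apply hξ
  linear_combination k6

end Dat

end Cfsg.Agent.H999.FC
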