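import Cfsg.Agent.H999.FC.Frame
import Cfsg.Agent.H277.FC.SN
import Cfsg.Agent.H200.DetSim

/-!
# S5764, symplectic groups of dimension 4: five conjugates from a frame  (helper999)
-/

set_option autoImplicit false

namespace Cfsg.Agent.H999.FC

open Cfsg.Agent.H198.FC

universe u v

variable {K : Type u} [Field K] {V : Type v} [AddCommGroup V] [Module K V]

theorem RP_zero {f : Equiv.Perm (R K V)} (hf : f ∈ RP K V) : f 0 = 0 := by
  have := hf.1 0 0
  rw [add_zero] at this
  simpa using this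

theorem RP_one {f : Equiv.Perm (R K V)} (hf : f ∈ RP K V) : f 1 = 1 := by
  have h := hf.2 1 (f.symm 1)
  rw [one_mul, Equiv.apply_symm_apply, mul_one] at h
  exact h.symm

theorem RP_sum {f : Equiv.Perm (R K V)} (hf : f ∈ RP K V) (t : Finset (Fin 5)) (g : Fin 5 → R K V) :
    f (∑ i ∈ t, g i) = ∑ i ∈ t, f (g i) := by
  classical
  induction t using Finset.induction_on with
  | empty => simpa using RP_zero hf
  | insert k t hk ih => rw [Finset.sum_insert hk, Finset.sum_insert hk, hf.1, ih]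

theorem exists_sigma' [Nontrivial V] {f : Equiv.Perm (R K V)} (hf : f ∈ RP K V) :
    ∃ σ : K ≃+* K, ∀ (c : K) (X : R K V), f (c • X) = σ c • f X := by
  let F : R K V ≃+* R K V := { f with map_mul' := hf.2, map_add' := hf.1 }
  obtain ⟨σ, hσ⟩ := H277.FC.exists_sigma F
  refine ⟨σ, fun c X => ?_⟩
  have h1 : f (c • (1 : R K V)) = σ c • (1 : R K V) := hσ c
  have h2 : c • X = (c • (1 : R K V)) * X := by rw [smul_mul_assoc, one_mul]
  rw [h2, hf.2, h1, smul_mul_assoc, one_mul]

theorem adj_add {b : Cl K V} {X Y X' Y' : R K V} (h : b.Adj X Y) (h' : b.Adj X' Y') : b.Adj (X + X') (Y + Y') := by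
  intro v w
  rw [LinearMap.add_apply, LinearMap.add_apply, b.add_left, b.add_right, h v w, h' v w]

theorem adj_smul {b : Cl K V} (hb : b.IsSp) (c : K) {X Y : R K V} (h : b.Adj X Y) : b.Adj (c • X) (c • Y) := by
  intro v w
  rw [LinearMap.smul_apply, LinearMap.smul_apply, b.smul_left, b.smul_right, hb.1, h v w]

theorem adj_mul {b : Cl K V} {X Y X' Y' : R K V} (h : b.Adj X Y) (h' : b.Adj X' Y') : b.Adj (X * X') (Y' * Y) := by
  intro v w
  rw [Module.End.mul_apply, Module.End.mul_apply, h, h']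

theorem adj_one (b : Cl K V) : b.Adj 1 1 := fun _ _ => rfl

theorem B_zero_left (b : Cl K V) (w : V) : b.B 0 w = 0 := by
  have := b.smul_left 0 0 w
  rwa [zero_smul, zero_mul] at this

theorem B_zero_right (b : Cl K V) (w : V) : b.B w 0 = 0 := by
  have := b.smul_right 0 w 0
  rwa [zero_smul, map_zero, zero_mul] at this

theorem adj_zero (b : Cl K V) : b.Adj 0 0 := fun v w => by
  rw [LinearMap.zero_apply, LinearMap.zero_apply, B_zero_left, B_zero_right]

theorem adj_sum {b : Cl K V} (t : Finset (Fin 5)) (g : Fin 5 → R K V) (h : ∀ i, b.Adj (g i) (g i)) :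
    b.Adj (∑ i ∈ t, g i) (∑ i ∈ t, g i) := by
  classical
  induction t using Finset.induction_on with
  | empty => simpa using adj_zero b
  | insert k t hk ih => rw [Finset.sum_insert hk]; exact adj_add (h k) ih

theorem adj_uu {b : Cl K V} (hb : b.IsSp) {e : Fin 5 → R K V} (h : ∀ i, b.Adj (e i) (e i)) (a : Fin 5 → K) :
    b.Adj (uu e a) (uu e a) := adj_sum _ _ fun i => adj_smul hb (a i) (h i)

/-- the bilinear form -/
def bil (b : Cl K V) (hb : b.IsSp) : LinearMap.BilinForm K V :=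
  LinearMap.mk₂ K b.B b.add_left b.smul_left b.add_right (fun a v w => by rw [b.smul_right, hb.1]; rfl)

@[simp] theorem bil_apply (b : Cl K V) (hb : b.IsSp) (v w : V) : bil b hb v w = b.B v w := rfl

theorem det_isom [Module.Finite K V] {b : Cl K V} (hb : b.IsSp) (h4 : Module.finrank K V = 4) {x : R K V}
    (hx : b.Isom x) : LinearMap.det x = 1 := by
  have h := Cfsg.Agent.H200.DetSim.det_similitude (bil b hb) (fun v => hb.2 v) (fun u hu => b.nondeg u hu) (k := 2) (by rw [h4]) x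
    (c := 1) one_ne_zero (fun u v => by rw [one_mul]; exact hx u v)
  rw [h, one_pow]

/-- changing the sign of a coordinate -/
def flip (a : Fin 5 → K) (k : Fin 5) : Fin 5 → K := fun j => if j = k then -a j else a j

theorem flip_ne {a : Fin 5 → K} (ha : ∀ i, a i ≠ 0) (k i : Fin 5) : flip a k i ≠ 0 := by
  unfold flip
  split_ifs
  · exact neg_ne_zero.2 (ha i)
  · exact ha i

theorem flip_sum (a : Fin 5 → K) (k : Fin 5) : ∑ i, flip a k i * flip a k i = ∑ i, a i * a i := by
  refine Finset.sum_congr rfl fun i _ => ?_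
  unfold flip
  split_ifs
  · ring
  · rfl

theorem pi_fix [Nontrivial V] (h2 : (2 : K) ≠ 0) {e : Fin 5 → R K V} (hF : Frame e) {f : Equiv.Perm (R K V)}
    (hf : f ∈ RP K V) {σ : K ≃+* K} (hσ : ∀ (c : K) (X : R K V), f (c • X) = σ c • f X) {π : Equiv.Perm (Fin 5)}
    (hπ : ∀ i, ∃ d : K, f (e i) = d • e (π i)) {a : Fin 5 → K} (ha : ∀ i, a i ≠ 0) {k : Fin 5} {t t' : K}
    (ht0 : t ≠ 0) (ht : f (uu e a) = t • uu e a) (ht' : f (uu e (flip a k)) = t' • uu e (flip a k)) :
    π k = k := by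
  by_contra hne
  obtain ⟨d, hd⟩ := hπ k
  have h1 : uu e (flip a k) = uu e a + (-(2 * a k)) • e k := by
    rw [← uu_single, ← uu_add]
    congr 1
    funext i
    unfold flip
    by_cases hi : i = k
    · rw [if_pos hi, if_pos hi, hi]; ring
    · rw [if_neg hi, if_neg hi, add_zero]
  have h3 : f (uu e (flip a k)) = t • uu e a + (σ (-(2 * a k)) * d) • e (π k) := by
    rw [h1, hf.1, ht, hσ, hd, smul_smul]
  rw [ht'] at h3
  have h4 : uu e (fun i => t' * flip a k i + (-t * a i + (if i = π k then -(σ (-(2 * a k)) * d) else 0))) = 0 := by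
    rw [uu_add, uu_add, uu_smul, uu_smul, uu_single, h3, neg_smul, neg_smul]
    abel
  have h5 := hF.uu_inj h2 h4
  have h6 := h5 k
  rw [if_neg (fun h => hne h.symm)] at h6
  unfold flip at h6
  rw [if_pos rfl] at h6
  have h7 : t' = -t := by
    have h8 : a k * (t' + t) = 0 := by linear_combination -h6
    rcases mul_eq_zero.1 h8 with h | h
    · exact absurd h (ha k)
    · linear_combination h
  obtain ⟨j, hj, hj', -, -⟩ := exists_out k (π k) k k
  have h8 := h5 j
  rw [if_neg hj'] at h8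
  unfold flip at h8
  rw [if_neg hj, h7] at h8
  have h9 : 2 * (t * a j) = 0 := by linear_combination -h8
  rcases mul_eq_zero.1 h9 with h | h
  · exact h2 h
  · exact mul_ne_zero ht0 (ha j) h

/-- **five conjugates from a frame** -/
theorem five_of_frame [Finite K] [Module.Finite K V] (h2 : (2 : K) ≠ 0) (b : Cl K V) (hb : b.IsSp)
    (h4 : Module.finrank K V = 4) {S : Subgroup (Equiv.Perm (R K V))} (hS : S ≤ RB b) {e : Fin 5 → R K V}
    (hF : Frame e) (hadj : ∀ i, b.Adj (e i) (e i))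
    (hperm : ∀ f ∈ S, ∃ π : Equiv.Perm (Fin 5), ∀ i, ∃ d : K, f (e i) = d • e (π i))
    (hnoswap : ∀ f ∈ S, ∀ π : Equiv.Perm (Fin 5), (∀ i, ∃ d : K, f (e i) = d • e (π i)) →
      π 0 = 0 → π 1 = 1 → π 2 = 2 → π = 1)
    {κ : K} (hκ : κ ≠ 0) (hprod : e 0 * e 1 * e 2 * e 3 * e 4 = κ • (1 : R K V))
    (hgen : ∀ f ∈ RP K V, (∀ (c : K) (X : R K V), f (c • X) = c • f X) → (∀ i, f (e i) = e i) → f = 1) :
    FiveB b S := by
  haveI : Nontrivial V := Module.nontrivial_of_finrank_pos (R := K) (by rw [h4]; norm_num)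
  obtain ⟨a, ha, haut, hsum⟩ := exists_vec K h2
  obtain ⟨Q, hQ⟩ : ∃ Q, ∑ i, a i * a i = Q := ⟨_, rfl⟩
  have hQ' : a 0 ^ 2 + a 1 ^ 2 + a 2 ^ 2 + a 3 ^ 2 + a 4 ^ 2 = Q := by
    rw [← hQ, Fin.sum_univ_five]
    ring
  rw [hQ'] at hsum
  -- the multiplier
  obtain ⟨s, c, hc, hs, hsm, hsadj, hcQ⟩ : ∃ (s : R K V) (c : K), c ≠ 0 ∧ s * s = c • (1 : R K V) ∧
      (∀ i, ∃ j, ∃ d : K, d ≠ 0 ∧ s * e i * s = d • e j) ∧ b.Adj s s ∧ c * Q = 1 := by
    rcases hsum with h | h
    · exact ⟨1, 1, one_ne_zero, by rw [mul_one, one_smul], fun i => ⟨i, 1, one_ne_zero, by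
        rw [one_mul, mul_one, one_smul]⟩, adj_one b, by rw [one_mul, h]⟩
    · have h01 : e 0 * e 1 = -(e 1 * e 0) := hF.anti 0 1 (by decide)
      have hss : (e 0 - e 1) * (e 0 - e 1) = (2 : K) • (1 : R K V) := by
        rw [sub_mul, mul_sub, mul_sub, hF.sq, hF.sq, h01, two_smul]
        abel
      refine ⟨e 0 - e 1, 2, h2, hss, ?_, ?_, h⟩
      · intro i
        by_cases h0 : i = 0
        · subst h0
          refine ⟨1, -2, neg_ne_zero.2 h2, ?_⟩
          have k1 : (e 0 - e 1) * e 0 + e 0 * (e 0 - e 1) = (2 : K) • (1 : R K V) := by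
            rw [sub_mul, mul_sub, hF.sq, h01, two_smul]
            abel
          rw [mul_mul_of k1 hss, neg_smul, smul_sub]
          abel
        by_cases h1 : i = 1
        · subst h1
          refine ⟨0, -2, neg_ne_zero.2 h2, ?_⟩
          have k1 : (e 0 - e 1) * e 1 + e 1 * (e 0 - e 1) = (-2 : K) • (1 : R K V) := by
            rw [sub_mul, mul_sub, hF.sq, h01, neg_smul, two_smul]
            abel
          rw [mul_mul_of k1 hss, neg_smul, smul_sub, neg_smul]
          abel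
        · refine ⟨i, -2, neg_ne_zero.2 h2, ?_⟩
          have k1 : (e 0 - e 1) * e i + e i * (e 0 - e 1) = (0 : K) • (1 : R K V) := by
            rw [sub_mul, mul_sub, hF.anti i 0 h0, hF.anti i 1 h1, zero_smul]
            abel
          rw [mul_mul_of k1 hss, zero_smul, zero_sub, neg_smul]
      · have k1 := adj_add (hadj 0) (adj_smul hb (-1) (hadj 1))
        rw [neg_one_smul, ← sub_eq_add_neg] at k1
        exact k1
  have hQ0 : Q ≠ 0 := fun h => by rw [h, mul_zero] at hcQ; exact zero_ne_one hcQ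
  have hσQ : ∀ σ : K ≃+* K, σ Q = Q := by
    intro σ
    rcases hsum with h | h
    · rw [h, map_one]
    · have k1 : σ (2 * Q) = 2 * σ Q := by rw [map_mul, map_ofNat]
      rw [h, map_one] at k1
      exact mul_left_cancel₀ h2 (by rw [← k1, h])
  -- the vectors
  obtain ⟨w, hw0, hw1, hw2, hw3, hwne, hwQ⟩ : ∃ w : Fin 4 → Fin 5 → K, w 0 = a ∧ w 1 = flip a 0 ∧ w 2 = flip a 1 ∧
      w 3 = flip a 2 ∧ (∀ j i, w j i ≠ 0) ∧ ∀ j, ∑ i, w j i * w j i = Q := by
    refine ⟨![a, flip a 0, flip a 1, flip a 2], rfl, rfl, rfl, rfl, ?_, ?_⟩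
    · intro j
      fin_cases j
      · exact ha
      · exact flip_ne ha 0
      · exact flip_ne ha 1
      · exact flip_ne ha 2
    · intro j
      fin_cases j
      · exact hQ
      · exact (flip_sum a 0).trans hQ
      · exact (flip_sum a 1).trans hQ
      · exact (flip_sum a 2).trans hQ
  have hww : ∀ j, uu e (w j) * uu e (w j) = Q • (1 : R K V) := fun j => by rw [hF.uu_sq h2, hwQ]
  let x : Fin 4 → (R K V)ˣ := fun j =>
    { val := s * uu e (w j)
      inv := uu e (w j) * s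
      val_inv := by
        rw [mul_assoc, ← mul_assoc (uu e (w j)), hww, smul_mul_assoc, one_mul, mul_smul_comm, hs, smul_smul, mul_comm Q,
          hcQ, one_smul]
      inv_val := by
        rw [mul_assoc, ← mul_assoc s, hs, smul_mul_assoc, one_mul, mul_smul_comm, hww, smul_smul, hcQ, one_smul] }
  have hxv : ∀ j, ((x j : (R K V)ˣ) : R K V) = s * uu e (w j) := fun _ => rfl
  have hisom : ∀ j, b.Isom (x j : (R K V)ˣ) := by
    intro j v v'
    rw [hxv, Module.End.mul_apply, Module.End.mul_apply, hsadj, ← Module.End.mul_apply s s, hs, LinearMap.smul_apply,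
      Module.End.one_apply, b.smul_right, hb.1, adj_uu hb hadj, ← Module.End.mul_apply (uu e (w j)), hww,
      LinearMap.smul_apply, Module.End.one_apply, b.smul_right, hb.1, ← mul_assoc, hcQ, one_mul]
  refine ⟨x, fun j => det_isom hb h4 (hisom j), hisom, ?_⟩
  intro f hf hfx
  have hfP : f ∈ RP K V := (hS hf).1
  obtain ⟨σ, hσ⟩ := exists_sigma' hfP
  obtain ⟨π, hπ⟩ := hperm f hf
  have hfix : ∀ j, ∃ t : K, t ^ 2 = 1 ∧ f (uu e (w j)) = t • uu e (w j) := by
    intro j
    obtain ⟨π', hπ'⟩ := hperm _ (hfx j)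
    exact hF.fix_line h2 hfP hσ hπ (hwne j) (hwQ j) hQ0 (hσQ σ) hc hs hsm (hxv j) (fun i => ⟨π' i, hπ' i⟩)
  obtain ⟨t, ht, ht'⟩ := hfix 0
  rw [hw0] at ht'
  have ht0 : t ≠ 0 := fun h => by rw [h] at ht; norm_num at ht
  have hπ0 : π 0 = 0 := by
    obtain ⟨t', -, h'⟩ := hfix 1
    rw [hw1] at h'
    exact pi_fix h2 hF hfP hσ hπ ha ht0 ht' h'
  have hπ1 : π 1 = 1 := by
    obtain ⟨t', -, h'⟩ := hfix 2
    rw [hw2] at h'
    exact pi_fix h2 hF hfP hσ hπ ha ht0 ht' h'
  have hπ2 : π 2 = 2 := by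
    obtain ⟨t', -, h'⟩ := hfix 3
    rw [hw3] at h'
    exact pi_fix h2 hF hfP hσ hπ ha ht0 ht' h'
  have hπ1' := hnoswap f hf π hπ hπ0 hπ1 hπ2
  subst hπ1'
  choose d hd using hπ
  have hd' : ∀ i, f (e i) = d i • e i := hd
  have hd2 : ∀ i, d i * d i = 1 := by
    intro i
    have k1 : f (e i * e i) = f (e i) * f (e i) := hfP.2 _ _
    rw [hF.sq, RP_one hfP, hd' i, smul_mul_assoc, mul_smul_comm, hF.sq, smul_smul] at k1
    have k2 : (1 : K) • (1 : R K V) = (d i * d i) • (1 : R K V) := by rw [one_smul]; exact k1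
    exact (smul_left_injective K one_ne_zero' k2).symm
  have hda : ∀ i, σ (a i) * d i = t * a i := by
    have k1 : f (uu e a) = uu e (fun i => σ (a i) * d i) := by
      unfold uu
      rw [RP_sum hfP]
      exact Finset.sum_congr rfl fun i _ => by rw [hσ, hd', smul_smul]
    have k2 : uu e (fun i => σ (a i) * d i + (-t) * a i) = 0 := by
      rw [uu_add, uu_smul, ← k1, ht', neg_smul, add_neg_cancel]
    intro i
    have := hF.uu_inj h2 k2 i
    linear_combination this
  have hσ1 : ∀ y, σ y = y := by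
    apply haut
    rw [map_pow]
    have k1 := hda 0
    have k2 := hd2 0
    calc σ (a 0) ^ 2 = σ (a 0) ^ 2 * (d 0 * d 0) := by rw [k2, mul_one]
      _ = (σ (a 0) * d 0) ^ 2 := by ring
      _ = (t * a 0) ^ 2 := by rw [k1]
      _ = t ^ 2 * a 0 ^ 2 := by ring
      _ = a 0 ^ 2 := by rw [ht, one_mul]
  have hdt : ∀ i, d i = t := by
    intro i
    have k1 := hda i
    rw [hσ1, mul_comm] at k1
    exact mul_right_cancel₀ (ha i) k1
  have ht1 : t = 1 := by
    have k1 : f (e 0 * e 1 * e 2 * e 3 * e 4) = t ^ 5 • (e 0 * e 1 * e 2 * e 3 * e 4) := by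
      rw [hfP.2, hfP.2, hfP.2, hfP.2, hd', hd', hd', hd', hd', hdt, hdt, hdt, hdt, hdt]
      simp only [smul_mul_assoc, mul_smul_comm, smul_smul]
      congr 1
      ring
    rw [hprod, hσ, hσ1, RP_one hfP, smul_smul] at k1
    have k2 : κ = t ^ 5 * κ := smul_left_injective K one_ne_zero' k1
    have k3 : t ^ 5 = t := by
      calc t ^ 5 = t ^ 2 * t ^ 2 * t := by ring
        _ = t := by rw [ht]; ring
    rw [k3] at k2
    have k4 : (t - 1) * κ = 0 := by linear_combination -k2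
    rcases mul_eq_zero.1 k4 with h | h
    · exact sub_eq_zero.1 h
    · exact absurd h hκ
  refine hgen f hfP (fun c X => by rw [hσ, hσ1]) fun i => ?_
  rw [hd', hdt, ht1, one_smul]

end Cfsg.Agent.H999.FC
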