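import Cfsg.Agent.H999.FC.Num
import Cfsg.Agent.H198.FC.DefsB

/-!
# S5764, symplectic groups of dimension 4: frames of five anticommuting involutions  (helper999)
-/

set_option autoImplicit false

namespace Cfsg.Agent.H999.FC

open Cfsg.Agent.H198.FC

universe u v

variable {K : Type u} [Field K] {V : Type v} [AddCommGroup V] [Module K V]

/-- five anticommuting involutions -/
structure Frame (e : Fin 5 → R K V) : Prop where
  sq : ∀ i, e i * e i = 1
  anti : ∀ i j, i ≠ j → e i * e j = -(e j * e i)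

/-- linear combinations of the frame -/
def uu (e : Fin 5 → R K V) (a : Fin 5 → K) : R K V := ∑ i, a i • e i

variable {e : Fin 5 → R K V}

theorem uu_add (a b : Fin 5 → K) : uu e (fun i => a i + b i) = uu e a + uu e b := by
  unfold uu
  rw [← Finset.sum_add_distrib]
  exact Finset.sum_congr rfl fun i _ => add_smul _ _ _

theorem uu_smul (t : K) (a : Fin 5 → K) : uu e (fun i => t * a i) = t • uu e a := by
  unfold uu
  rw [Finset.smul_sum]
  exact Finset.sum_congr rfl fun i _ => mul_smul _ _ _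

theorem uu_single (k : Fin 5) (t : K) : uu e (fun i => if i = k then t else 0) = t • e k := by
  unfold uu
  rw [Finset.sum_eq_single k]
  · simp
  · intro i _ hi
    simp [hi]
  · intro h
    exact absurd (Finset.mem_univ k) h

theorem Frame.e_uu (hF : Frame e) (j : Fin 5) (a : Fin 5 → K) :
    e j * uu e a + uu e a * e j = (2 * a j) • (1 : R K V) := by
  unfold uu
  rw [Finset.mul_sum, Finset.sum_mul, ← Finset.sum_add_distrib, Finset.sum_eq_single j]
  · rw [mul_smul_comm, smul_mul_assoc, hF.sq, ← add_smul, two_mul]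
  · intro i _ hi
    rw [mul_smul_comm, smul_mul_assoc, ← smul_add, hF.anti i j hi, add_neg_cancel, smul_zero]
  · intro h
    exact absurd (Finset.mem_univ j) h

theorem Frame.uu_uu (hF : Frame e) (a b : Fin 5 → K) :
    uu e a * uu e b + uu e b * uu e a = (2 * ∑ i, a i * b i) • (1 : R K V) := by
  have h : uu e a * uu e b + uu e b * uu e a = ∑ i, (a i) • (e i * uu e b + uu e b * e i) := by
    conv_lhs => rw [show uu e a = ∑ i, a i • e i from rfl]
    rw [Finset.sum_mul, Finset.mul_sum, ← Finset.sum_add_distrib]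
    exact Finset.sum_congr rfl fun i _ => by rw [smul_mul_assoc, mul_smul_comm, smul_add]
  rw [h, Finset.mul_sum, Finset.sum_smul]
  refine Finset.sum_congr rfl fun i _ => ?_
  rw [hF.e_uu, smul_smul]
  congr 1
  ring

theorem Frame.uu_sq (h2 : (2 : K) ≠ 0) (hF : Frame e) (a : Fin 5 → K) :
    uu e a * uu e a = (∑ i, a i * a i) • (1 : R K V) := by
  have h := hF.uu_uu a a
  rw [← two_smul K, mul_smul] at h
  exact smul_right_injective (R K V) h2 h

theorem one_ne_zero' [Nontrivial V] : (1 : R K V) ≠ 0 := one_ne_zero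

theorem Frame.uu_inj [Nontrivial V] (h2 : (2 : K) ≠ 0) (hF : Frame e) {a : Fin 5 → K} (h : uu e a = 0) (i : Fin 5) :
    a i = 0 := by
  have h1 := hF.e_uu i a
  rw [h, mul_zero, zero_mul, add_zero] at h1
  rcases smul_eq_zero.1 h1.symm with h3 | h3
  · exact (mul_eq_zero.1 h3).resolve_left h2
  · exact absurd h3 one_ne_zero'

theorem Frame.ne_zero [Nontrivial V] (hF : Frame e) (i : Fin 5) : e i ≠ 0 := by
  intro h
  have h1 := hF.sq i
  rw [h, mul_zero] at h1
  exact one_ne_zero' h1.symm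

/-- `X Y X` from the anticommutator and the square -/
theorem mul_mul_of {X Y : R K V} {s q : K} (hs : X * Y + Y * X = s • (1 : R K V)) (hq : X * X = q • (1 : R K V)) :
    X * Y * X = s • X - q • Y := by
  have h1 : X * Y = s • (1 : R K V) - Y * X := by rw [← hs]; abel
  rw [h1, sub_mul, mul_assoc, hq, smul_mul_assoc, one_mul, mul_smul_comm, mul_one]

theorem exists_out (p q r s : Fin 5) : ∃ j : Fin 5, j ≠ p ∧ j ≠ q ∧ j ≠ r ∧ j ≠ s := by
  revert p q r s
  decide

/-- **Key lemma.** -/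
theorem Frame.key [Nontrivial V] (h2 : (2 : K) ≠ 0) (hF : Frame e) {a a' : Fin 5 → K} {Q Q' : K}
    (hQ : uu e a * uu e a = Q • (1 : R K V)) (hQ' : uu e a' * uu e a' = Q' • (1 : R K V)) (hQ'0 : Q' ≠ 0)
    (ha : ∀ i, a i ≠ 0)
    (hm : ∀ i, ∃ l, ∃ δ : K, uu e a * uu e a' * e i * uu e a' * uu e a = δ • e l) :
    ∃ t : K, ∀ i, a' i = t * a i := by
  obtain ⟨β, hβ⟩ : ∃ β : K, uu e a * uu e a' + uu e a' * uu e a = (2 * β) • (1 : R K V) := ⟨_, hF.uu_uu a a'⟩
  have h1 : ∀ i, ∃ l, ∀ j, j ≠ i → j ≠ l → (2 * a' i * β - Q' * a i) * a j = a' i * Q * a' j := by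
    intro i
    obtain ⟨l, δ, hδ⟩ := hm i
    refine ⟨l, fun j hj hjl => ?_⟩
    have e1 : uu e a' * e i * uu e a' = (2 * a' i) • uu e a' - Q' • e i :=
      mul_mul_of (by rw [add_comm]; exact hF.e_uu i a') hQ'
    have e2 : uu e a * uu e a' * uu e a = (2 * β) • uu e a - Q • uu e a' := mul_mul_of hβ hQ
    have e3 : uu e a * e i * uu e a = (2 * a i) • uu e a - Q • e i :=
      mul_mul_of (by rw [add_comm]; exact hF.e_uu i a) hQ
    have e4 : uu e a * uu e a' * e i * uu e a' * uu e a =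
        (2 * a' i) • ((2 * β) • uu e a - Q • uu e a') - Q' • ((2 * a i) • uu e a - Q • e i) := by
      rw [← e2, ← e3]
      have : uu e a * uu e a' * e i * uu e a' * uu e a = uu e a * (uu e a' * e i * uu e a') * uu e a := by
        simp only [mul_assoc]
      rw [this, e1, mul_sub, sub_mul, mul_smul_comm, smul_mul_assoc, mul_smul_comm, smul_mul_assoc]
    rw [hδ] at e4
    have e5 : uu e (fun j => ((2 * a' i) * (2 * β) - Q' * (2 * a i)) * a j + (-((2 * a' i) * Q) * a' j +
        ((if j = i then Q' * Q else 0) + (if j = l then -δ else 0)))) = 0 := by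
      rw [uu_add, uu_add, uu_add, uu_smul, uu_smul, uu_single, uu_single]
      have : ((2 * a' i) * (2 * β) - Q' * (2 * a i)) • uu e a + (-((2 * a' i) * Q) • uu e a' +
          ((Q' * Q) • e i + (-δ) • e l)) =
        ((2 * a' i) • ((2 * β) • uu e a - Q • uu e a') - Q' • ((2 * a i) • uu e a - Q • e i)) - δ • e l := by
        module
      rw [this, ← e4, sub_self]
    have e6 := hF.uu_inj h2 e5 j
    simp only [if_neg hj, if_neg hjl, add_zero] at e6
    have e7 : 2 * ((2 * a' i * β - Q' * a i) * a j - a' i * Q * a' j) = 0 := by linear_combination e6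
    exact sub_eq_zero.1 ((mul_eq_zero.1 e7).resolve_left h2)
  have h3 : ∀ i i', a' i' * a i = a' i * a i' := by
    intro i i'
    obtain ⟨l, hl⟩ := h1 i
    obtain ⟨l', hl'⟩ := h1 i'
    obtain ⟨j, j1, j2, j3, j4⟩ := exists_out i l i' l'
    have k1 := hl j j1 j2
    have k2 := hl' j j3 j4
    have k3 : a j * Q' * (a' i' * a i - a' i * a i') = 0 := by
      linear_combination (-a' i') * k1 + (a' i) * k2
    rcases mul_eq_zero.1 k3 with h | h
    · exact absurd h (mul_ne_zero (ha j) hQ'0)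
    · exact sub_eq_zero.1 h
  refine ⟨a' 0 / a 0, fun i => ?_⟩
  have := h3 0 i
  have h0 := ha 0
  field_simp
  linear_combination this

/-- the image of `f` on the frame -/
theorem Frame.fix_line [Nontrivial V] (h2 : (2 : K) ≠ 0) (hF : Frame e) {f : Equiv.Perm (R K V)} (hf : f ∈ RP K V)
    {σ : K ≃+* K} (hσ : ∀ (c : K) (X : R K V), f (c • X) = σ c • f X) {π : Equiv.Perm (Fin 5)}
    (hπ : ∀ i, ∃ d : K, f (e i) = d • e (π i)) {a : Fin 5 → K} (ha : ∀ i, a i ≠ 0) {Q : K}
    (hQ : ∑ i, a i * a i = Q) (hQ0 : Q ≠ 0) (hσQ : σ Q = Q) {s : R K V} {c : K} (hc : c ≠ 0)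
    (hs : s * s = c • (1 : R K V)) (hsm : ∀ i, ∃ j, ∃ d : K, d ≠ 0 ∧ s * e i * s = d • e j)
    {x : (R K V)ˣ} (hx : (x : R K V) = s * uu e a)
    (hm : ∀ i, ∃ j, ∃ d : K, (cj K V x * f * (cj K V x)⁻¹) (e i) = d • e j) :
    ∃ t : K, t ^ 2 = 1 ∧ f (uu e a) = t • uu e a := by
  have hadd := hf.1
  have hmul := hf.2
  have hf0 : f 0 = 0 := by
    have := hadd 0 0
    rw [add_zero] at this
    simpa using this
  have hf1 : f 1 = 1 := by
    have h := hmul 1 (f.symm 1)
    rw [one_mul, Equiv.apply_symm_apply, mul_one] at h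
    exact h.symm
  choose d hd using hπ
  have hd0 : ∀ i, d i ≠ 0 := by
    intro i h
    have h3 := hd i
    rw [h, zero_smul, ← hf0] at h3
    exact hF.ne_zero i (f.injective h3)
  have huu : uu e a * uu e a = Q • (1 : R K V) := by rw [hF.uu_sq h2, hQ]
  -- the image of `u`
  have hfsum : ∀ (t : Finset (Fin 5)) (g : Fin 5 → R K V), f (∑ i ∈ t, g i) = ∑ i ∈ t, f (g i) := by
    classical
    intro t g
    induction t using Finset.induction_on with
    | empty => simpa using hf0
    | insert k t hk ih => rw [Finset.sum_insert hk, Finset.sum_insert hk, hadd, ih]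
  obtain ⟨a', ha'0, ha'⟩ : ∃ a' : Fin 5 → K, (∀ i, a' i ≠ 0) ∧ f (uu e a) = uu e a' := by
    refine ⟨fun k => σ (a (π.symm k)) * d (π.symm k), fun k => ?_, ?_⟩
    · exact mul_ne_zero (by simpa using ha _) (hd0 _)
    · unfold uu
      rw [hfsum, ← Equiv.sum_comp π (fun k => (σ (a (π.symm k)) * d (π.symm k)) • e k)]
      refine Finset.sum_congr rfl fun i _ => ?_
      rw [hσ, hd, Equiv.symm_apply_apply, mul_smul]
  have huu' : uu e a' * uu e a' = Q • (1 : R K V) := by
    rw [← ha', ← hmul, huu, hσ, hσQ, hf1]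
  have hxi : ((x⁻¹ : (R K V)ˣ) : R K V) = (c * Q)⁻¹ • (uu e a * s) := by
    have h1 : (x : R K V) * ((c * Q)⁻¹ • (uu e a * s)) = 1 := by
      rw [hx, mul_smul_comm, mul_assoc, ← mul_assoc (uu e a) (uu e a) s, huu, smul_mul_assoc, one_mul, mul_smul_comm,
        hs, smul_smul, smul_smul]
      rw [show (c * Q)⁻¹ * Q * c = 1 by field_simp, one_smul]
    have h3 : ((x⁻¹ : (R K V)ˣ) : R K V) * ((x : R K V) * ((c * Q)⁻¹ • (uu e a * s))) =
        ((x⁻¹ : (R K V)ˣ) : R K V) := by rw [h1, mul_one]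
    rw [← mul_assoc, Units.inv_mul, one_mul] at h3
    exact h3.symm
  have hmon : ∀ k, ∃ l, ∃ δ : K, uu e a * uu e a' * e k * uu e a' * uu e a = δ • e l := by
    intro k
    obtain ⟨i, d', hd', hi⟩ := hsm (π.symm k)
    obtain ⟨m, d'', hd''⟩ := hm i
    obtain ⟨l, d3, -, hl⟩ := hsm m
    -- `x⁻¹ e_i x`
    have g1 : ((x⁻¹ : (R K V)ˣ) : R K V) * e i * x = ((c * Q)⁻¹ * (d'⁻¹ * (c * c))) •
        (uu e a * e (π.symm k) * uu e a) := by
      have g2 : s * e i * s = (d'⁻¹ * (c * c)) • e (π.symm k) := by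
        have g3 : e i = d'⁻¹ • (s * e (π.symm k) * s) := by
          rw [hi, smul_smul, inv_mul_cancel₀ hd', one_smul]
        have g4 : s * e i * s = d'⁻¹ • ((s * s) * e (π.symm k) * (s * s)) := by
          rw [g3]
          simp only [mul_smul_comm, smul_mul_assoc, mul_assoc]
        rw [g4, hs, smul_mul_assoc, one_mul, mul_smul_comm, mul_one, smul_smul, smul_smul]
        congr 1
        ring
      rw [hxi, hx]
      have g5 : (c * Q)⁻¹ • (uu e a * s) * e i * (s * uu e a) = (c * Q)⁻¹ • (uu e a * (s * e i * s) * uu e a) := by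
        simp only [smul_mul_assoc, mul_assoc]
      rw [g5, g2, mul_smul_comm, smul_mul_assoc, smul_smul]
    set μ : K := (c * Q)⁻¹ * (d'⁻¹ * (c * c)) with hμ
    have hμ0 : μ ≠ 0 := by
      rw [hμ]
      positivity
    -- apply `f`
    have g6 : f (((x⁻¹ : (R K V)ˣ) : R K V) * e i * x) = (σ μ * d (π.symm k)) • (uu e a' * e k * uu e a') := by
      rw [g1, hσ, hmul, hmul, ha', hd, Equiv.apply_symm_apply, mul_smul_comm, smul_mul_assoc, smul_smul]
    have g7 : (cj K V x * f * (cj K V x)⁻¹) (e i) = x * f (((x⁻¹ : (R K V)ˣ) : R K V) * e i * x) *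
        ((x⁻¹ : (R K V)ˣ) : R K V) := by
      rw [← map_inv]
      simp only [Equiv.Perm.mul_apply, cj_apply, inv_inv]
    rw [g7, g6] at hd''
    -- `s w s = scalar • e m`
    have g8 : s * (uu e a * uu e a' * e k * uu e a' * uu e a) * s =
        ((σ μ * d (π.symm k))⁻¹ * (c * Q) * d'') • e m := by
      have g9 : (σ μ * d (π.symm k)) • ((c * Q)⁻¹ • (s * (uu e a * uu e a' * e k * uu e a' * uu e a) * s)) =
          d'' • e m := by
        rw [← hd'', hxi, hx]
        simp only [smul_mul_assoc, mul_smul_comm, mul_assoc]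
        rw [smul_comm]
      have hne : σ μ * d (π.symm k) ≠ 0 := mul_ne_zero (by simpa using hμ0) (hd0 _)
      rw [mul_smul, ← g9, smul_smul, smul_smul]
      have : (σ μ * d (π.symm k))⁻¹ * (c * Q) * (σ μ * d (π.symm k)) * (c * Q)⁻¹ = 1 := by
        generalize σ μ * d (π.symm k) = ω at hne
        field_simp
      rw [this, one_smul]
    refine ⟨l, (c * c)⁻¹ * ((σ μ * d (π.symm k))⁻¹ * (c * Q) * d'' * d3), ?_⟩
    have g10 : (c * c) • (uu e a * uu e a' * e k * uu e a' * uu e a) =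
        ((σ μ * d (π.symm k))⁻¹ * (c * Q) * d'') • (s * e m * s) := by
      have g11 : s * (s * (uu e a * uu e a' * e k * uu e a' * uu e a) * s) * s =
          (s * s) * (uu e a * uu e a' * e k * uu e a' * uu e a) * (s * s) := by simp only [mul_assoc]
      rw [g8, hs, smul_mul_assoc, one_mul, mul_smul_comm, mul_smul_comm, mul_one, smul_smul, smul_mul_assoc] at g11
      exact g11.symm
    rw [hl, smul_smul] at g10
    rw [mul_smul, ← g10, smul_smul, inv_mul_cancel₀ (mul_ne_zero hc hc), one_smul]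
  obtain ⟨t, ht⟩ := hF.key h2 huu huu' hQ0 ha hmon
  have h5 : uu e a' = t • uu e a := by
    rw [← uu_smul]
    congr 1
    funext i
    exact ht i
  refine ⟨t, ?_, by rw [ha', h5]⟩
  rw [h5, smul_mul_assoc, mul_smul_comm, huu, smul_smul, smul_smul] at huu'
  have h6 : t * t * Q = Q := smul_left_injective K one_ne_zero' huu'
  have h7 : (t ^ 2 - 1) * Q = 0 := by linear_combination h6
  rcases mul_eq_zero.1 h7 with h | h
  · exact sub_eq_zero.1 h
  · exact absurd h hQ0

end Cfsg.Agent.H999.FC
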