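import Cfsg.Agent.H999.FC.Five

/-!
# S5764, symplectic groups of dimension 4: the lifts of the elementary abelian group of order 16  (helper999)
-/

set_option autoImplicit false

namespace Cfsg.Agent.H999.FC

open Cfsg.Agent.H198.FC

universe u v

variable {K : Type u} [Field K] {V : Type v} [AddCommGroup V] [Module K V]

/-- the data -/
structure Dat (b : Cl K V) (S A : Subgroup (Equiv.Perm (R K V))) : Prop where
  sp : b.IsSp
  dim : Module.finrank K V = 4
  two : (2 : K) ≠ 0
  SRB : S ≤ RB b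
  AS : A ≤ S
  AIN : A ≤ IN K V
  sq : ∀ f ∈ A, f ^ 2 = 1
  comm : ∀ f ∈ A, ∀ g ∈ A, f * g = g * f
  span : Submodule.span K {X : R K V | ∃ x : (R K V)ˣ, (x : R K V) = X ∧ cj K V x ∈ A} = ⊤
  norm : ∀ g ∈ S, ∀ f ∈ A, g * f * g⁻¹ ∈ A
  min : ∀ B : Subgroup (Equiv.Perm (R K V)), B ≤ A → (∀ g ∈ S, ∀ f ∈ B, g * f * g⁻¹ ∈ B) → B = ⊥ ∨ B = A

/-- lifts of elements of `A` -/
def L (A : Subgroup (Equiv.Perm (R K V))) (X : R K V) : Prop := ∃ x : (R K V)ˣ, (x : R K V) = X ∧ cj K V x ∈ A

/-- scalar -/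
def Sc (X : R K V) : Prop := ∃ c : K, X = c • (1 : R K V)

namespace Dat

variable {b : Cl K V} {S A : Subgroup (Equiv.Perm (R K V))}

theorem nontriv (h : Dat b S A) : Nontrivial V := Module.nontrivial_of_finrank_pos (R := K) (by rw [h.dim]; norm_num)

theorem finV (h : Dat b S A) : Module.Finite K V := Module.finite_of_finrank_pos (by rw [h.dim]; norm_num)

theorem L_mul {X Y : R K V} (hX : L A X) (hY : L A Y) : L A (X * Y) := by
  obtain ⟨x, rfl, hx⟩ := hX
  obtain ⟨y, rfl, hy⟩ := hY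
  exact ⟨x * y, rfl, by rw [map_mul]; exact A.mul_mem hx hy⟩

theorem cj_smul (c : Kˣ) (x : (R K V)ˣ) :
    cj K V (Units.map (algebraMap K (R K V)).toMonoidHom c * x) = cj K V x := by
  rw [map_mul]
  have : cj K V (Units.map (algebraMap K (R K V)).toMonoidHom c) = 1 := by
    apply Equiv.ext
    intro X
    rw [cj_apply, ← map_inv]
    change algebraMap K (R K V) c * X * algebraMap K (R K V) ((c⁻¹ : Kˣ) : K) = X
    rw [← Algebra.commutes, ← mul_assoc, ← map_mul, Units.inv_mul, map_one, one_mul]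
  rw [this, one_mul]

theorem L_smul {X : R K V} {c : K} (hc : c ≠ 0) (hX : L A X) : L A (c • X) := by
  obtain ⟨x, rfl, hx⟩ := hX
  refine ⟨Units.map (algebraMap K (R K V)).toMonoidHom (Units.mk0 c hc) * x, ?_, by rw [cj_smul]; exact hx⟩
  change algebraMap K (R K V) c * (x : R K V) = c • (x : R K V)
  rw [Algebra.smul_def]

theorem L_one : L A (1 : R K V) := ⟨1, rfl, by rw [map_one]; exact A.one_mem⟩

theorem L_f (h : Dat b S A) {f : Equiv.Perm (R K V)} (hf : f ∈ S) {X : R K V} (hX : L A X) : L A (f X) := by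
  have hfP := (h.SRB hf).1
  obtain ⟨x, rfl, hx⟩ := hX
  let y : (R K V)ˣ :=
    { val := f x
      inv := f ((x⁻¹ : (R K V)ˣ) : R K V)
      val_inv := by rw [← hfP.2, Units.mul_inv, RP_one hfP]
      inv_val := by rw [← hfP.2, Units.inv_mul, RP_one hfP] }
  refine ⟨y, rfl, ?_⟩
  have h1 := h.norm f hf _ hx
  have h3 : f * cj K V x * f⁻¹ = cj K V y := by
    apply Equiv.ext
    intro Z
    rw [cj_apply]
    change f (x * (f⁻¹ Z) * ((x⁻¹ : (R K V)ˣ) : R K V)) = f x * Z * f ((x⁻¹ : (R K V)ˣ) : R K V)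
    rw [hfP.2, hfP.2]
    congr 2
    exact Equiv.apply_symm_apply f Z
  rw [← h3]
  exact h1

theorem L_ne (h : Dat b S A) {X : R K V} (hX : L A X) : X ≠ 0 := by
  have := h.nontriv
  obtain ⟨x, rfl, -⟩ := hX
  exact x.ne_zero

theorem central (h : Dat b S A) {x : (R K V)ˣ} (hx : cj K V x = 1) : Sc (x : R K V) := by
  have := h.nontriv
  refine H277.FC.exists_smul_one _ fun Y => ?_
  have h1 := congrArg (fun f : Equiv.Perm (R K V) => f Y) hx
  simp only [cj_apply, Equiv.Perm.one_apply] at h1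
  calc (x : R K V) * Y = (x : R K V) * Y * (x⁻¹ : (R K V)ˣ) * x := by rw [mul_assoc _ _ (x : R K V), Units.inv_mul, mul_one]
    _ = Y * x := by rw [h1]

theorem L_sq (h : Dat b S A) {X : R K V} (hX : L A X) : ∃ ν : K, ν ≠ 0 ∧ X * X = ν • (1 : R K V) := by
  have := h.nontriv
  obtain ⟨x, rfl, hx⟩ := hX
  have h1 : cj K V (x * x) = 1 := by
    have := h.sq _ hx
    rwa [pow_two, ← map_mul] at this
  obtain ⟨c, hc⟩ := h.central h1
  rw [Units.val_mul] at hc
  refine ⟨c, ?_, hc⟩
  rintro rfl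
  rw [zero_smul] at hc
  exact (x * x).ne_zero (by rw [Units.val_mul]; exact hc)

theorem L_comm (h : Dat b S A) {X Y : R K V} (hX : L A X) (hY : L A Y) : X * Y = Y * X ∨ X * Y = -(Y * X) := by
  have := h.nontriv
  obtain ⟨ν, hν, hXX⟩ := h.L_sq hX
  obtain ⟨ξ, hξ, hYY⟩ := h.L_sq hY
  obtain ⟨x, rfl, hx⟩ := hX
  obtain ⟨y, rfl, hy⟩ := hY
  have h1 : cj K V (x * y * (y * x)⁻¹) = 1 := by
    rw [map_mul, map_inv, map_mul, map_mul, h.comm _ hx _ hy, mul_inv_cancel]
  obtain ⟨c, hc⟩ := h.central h1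
  have h3 : (x : R K V) * y = c • ((y : R K V) * x) := by
    have : ((x * y * (y * x)⁻¹ : (R K V)ˣ) : R K V) * ((y : R K V) * x) = x * y := by
      rw [← Units.val_mul, ← Units.val_mul, mul_assoc, inv_mul_cancel, mul_one, Units.val_mul]
    rw [← this, hc, smul_mul_assoc, one_mul]
  have h4 : (x : R K V) * x * y = (c * c) • ((y : R K V) * (x * x)) := by
    rw [mul_assoc, h3, mul_smul_comm, ← mul_assoc, h3, smul_mul_assoc, smul_smul, mul_assoc]
  rw [hXX, smul_mul_assoc, one_mul, mul_smul_comm, mul_one, smul_smul] at h4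
  have h5 : ν = c * c * ν := smul_left_injective K y.ne_zero h4
  have h6 : (c - 1) * (c + 1) * ν = 0 := by linear_combination -h5
  rcases mul_eq_zero.1 h6 with h7 | h7
  · rcases mul_eq_zero.1 h7 with h8 | h8
    · left; rw [h3, sub_eq_zero.1 h8, one_smul]
    · right; rw [h3, eq_neg_of_add_eq_zero_left h8, neg_one_smul]
  · exact absurd h7 hν

theorem B_symm (h : Dat b S A) (v w : V) : b.B v w = -b.B w v := by
  have h1 := h.sp.2 (v + w)
  rw [b.add_left, b.add_right, b.add_right, h.sp.2, h.sp.2] at h1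
  linear_combination h1

theorem self_zero (h : Dat b S A) {X : R K V} (hX : b.Adj X X) (v : V) : b.B v (X v) = 0 := by
  have h1 := hX v v
  rw [h.B_symm (X v) v] at h1
  have h3 : 2 * b.B v (X v) = 0 := by linear_combination -h1
  exact (mul_eq_zero.1 h3).resolve_left h.two

/-- the elements of `A` are similitudes -/
theorem L_sim (h : Dat b S A) {x : (R K V)ˣ} (hx : cj K V x ∈ A) :
    ∃ μ : K, ∀ v w, b.B ((x : R K V) v) ((x : R K V) w) = μ * b.B v w := by
  have := h.nontriv
  have h1 := (h.SRB (h.AS hx)).2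
  -- `b u₀ w₀ = 1`
  obtain ⟨u₀, w₀, hu⟩ : ∃ u₀ w₀, b.B u₀ w₀ = 1 := by
    obtain ⟨v, hv⟩ := exists_ne (0 : V)
    have : ∃ w, b.B v w ≠ 0 := by
      by_contra hcon
      push Not at hcon
      exact hv (b.nondeg v hcon)
    obtain ⟨w, hw⟩ := this
    exact ⟨(b.B v w)⁻¹ • v, w, by rw [b.smul_left, inv_mul_cancel₀ hw]⟩
  refine ⟨b.B ((x : R K V) u₀) ((x : R K V) w₀), fun v z => ?_⟩
  -- rank one operators
  let X : R K V :=
    { toFun := fun v => b.B v z • u₀
      map_add' := fun v v' => by rw [b.add_left, add_smul]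
      map_smul' := fun c v => by rw [b.smul_left, mul_smul]; rfl }
  let Y : R K V :=
    { toFun := fun w => b.B u₀ w • z
      map_add' := fun v v' => by rw [b.add_right, add_smul]
      map_smul' := fun c v => by rw [b.smul_right, h.sp.1, mul_smul]; rfl }
  have hXY : b.Adj X Y := by
    intro v w
    change b.B (b.B v z • u₀) w = b.B v (b.B u₀ w • z)
    rw [b.smul_left, b.smul_right, h.sp.1, mul_comm]
  have h3 := (h1 X Y).1 hXY ((x : R K V) v) ((x : R K V) w₀)
  rw [cj_apply, cj_apply] at h3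
  have h4 : ∀ (Z : R K V) (v : V), ((x : R K V) * Z * ((x⁻¹ : (R K V)ˣ) : R K V)) ((x : R K V) v) = (x : R K V) (Z v) := by
    intro Z v
    rw [← Module.End.mul_apply, mul_assoc, Units.inv_mul, mul_one, Module.End.mul_apply]
  rw [h4, h4] at h3
  change b.B ((x : R K V) (b.B v z • u₀)) ((x : R K V) w₀) = b.B ((x : R K V) v) ((x : R K V) (b.B u₀ w₀ • z)) at h3
  rw [map_smul, map_smul, b.smul_left, b.smul_right, h.sp.1, hu, one_mul] at h3
  rw [← h3, mul_comm]

theorem L_adj (h : Dat b S A) {X : R K V} (hX : L A X) : b.Adj X X ∨ b.Adj X (-X) := by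
  have := h.nontriv
  obtain ⟨ν, hν, hXX⟩ := h.L_sq hX
  obtain ⟨x, rfl, hx⟩ := hX
  obtain ⟨μ, hμ⟩ := h.L_sim hx
  -- `b (x v) w = c b v (x w)`
  have h1 : ∀ v w, b.B ((x : R K V) v) w = (μ * ν⁻¹) * b.B v ((x : R K V) w) := by
    intro v w
    have h3 : w = (x : R K V) (ν⁻¹ • (x : R K V) w) := by
      rw [map_smul, ← Module.End.mul_apply, hXX, LinearMap.smul_apply, Module.End.one_apply, smul_smul,
        inv_mul_cancel₀ hν, one_smul]
    conv_lhs => rw [h3]
    rw [hμ, b.smul_right, h.sp.1, mul_assoc]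
  set c := μ * ν⁻¹ with hc
  have h3 : ∀ v w, b.B ((x : R K V) v) w = c * c * b.B ((x : R K V) v) w := by
    intro v w
    have k1 := h1 v w
    have k2 := h1 w v
    rw [h.B_symm v] at k1
    rw [h.B_symm w] at k2
    linear_combination k1 - c * k2
  obtain ⟨v, hv⟩ := exists_ne (0 : V)
  have hxv : (x : R K V) v ≠ 0 := by
    intro h0
    apply hv
    have : ((x⁻¹ : (R K V)ˣ) : R K V) ((x : R K V) v) = v := by
      rw [← Module.End.mul_apply, Units.inv_mul, Module.End.one_apply]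
    rw [← this, h0, map_zero]
  obtain ⟨w, hw⟩ : ∃ w, b.B ((x : R K V) v) w ≠ 0 := by
    by_contra hcon
    push Not at hcon
    exact hxv (b.nondeg _ hcon)
  have h5 : (c - 1) * (c + 1) * b.B ((x : R K V) v) w = 0 := by linear_combination -(h3 v w)
  rcases mul_eq_zero.1 h5 with h7 | h7
  · rcases mul_eq_zero.1 h7 with h8 | h8
    · left
      intro v w
      rw [h1, sub_eq_zero.1 h8, one_mul]
    · right
      intro v w
      rw [h1, eq_neg_of_add_eq_zero_left h8, LinearMap.neg_apply, ← neg_one_smul K ((x : R K V) w), b.smul_right,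
        h.sp.1]
  · exact absurd h7 hw

/-- a non-scalar element of `A^` has an anticommuting partner -/
theorem exists_anti (h : Dat b S A) {X : R K V} (hX : L A X) (hs : ¬ Sc X) : ∃ T, L A T ∧ T * X = -(X * T) := by
  have := h.nontriv
  by_contra hcon
  push Not at hcon
  apply hs
  refine H277.FC.exists_smul_one _ fun Y => ?_
  let M : Submodule K (R K V) :=
    { carrier := {Y | X * Y = Y * X}
      zero_mem' := by simp
      add_mem' := fun {Y Y'} hY hY' => by
        simp only [Set.mem_ofPred_eq] at *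
        rw [mul_add, add_mul, hY, hY']
      smul_mem' := fun c Y hY => by
        simp only [Set.mem_ofPred_eq] at *
        rw [mul_smul_comm, smul_mul_assoc, hY] }
  have h1 : Submodule.span K {X : R K V | ∃ x : (R K V)ˣ, (x : R K V) = X ∧ cj K V x ∈ A} ≤ M := by
    rw [Submodule.span_le]
    intro T hT
    rcases h.L_comm hT hX with h1 | h1
    · exact h1.symm
    · exact absurd h1 (hcon T hT)
  rw [h.span] at h1
  exact h1 (Submodule.mem_top (x := Y))

theorem trace_zero (h : Dat b S A) {X : R K V} (hX : L A X) (hs : ¬ Sc X) : LinearMap.trace K V X = 0 := by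
  obtain ⟨T, hT, hTX⟩ := h.exists_anti hX hs
  obtain ⟨τ, hτ, hTT⟩ := h.L_sq hT
  have h1 : LinearMap.trace K V (T * X * T) = τ * LinearMap.trace K V X := by
    rw [LinearMap.trace_mul_comm, ← mul_assoc, hTT, smul_mul_assoc, one_mul, map_smul, smul_eq_mul]
  have h3 : LinearMap.trace K V (T * X * T) = -(τ * LinearMap.trace K V X) := by
    rw [hTX, neg_mul, mul_assoc, hTT, mul_smul_comm, mul_one, map_neg, map_smul, smul_eq_mul]
  have h4 : 2 * (τ * LinearMap.trace K V X) = 0 := by linear_combination h3 - h1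
  rcases mul_eq_zero.1 h4 with h5 | h5
  · exact absurd h5 h.two
  · exact (mul_eq_zero.1 h5).resolve_left hτ

end Dat

end Cfsg.Agent.H999.FC
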