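import Mathlib

/-!
# S5764, symplectic groups of dimension 4: sums of five non-zero squares in finite fields  (helper999)
-/

set_option autoImplicit false

namespace Cfsg.Agent.H999.FC

open Polynomial

variable {K : Type*} [Field K]

/-- a ring automorphism fixing the square of a generator of `K^*` is trivial -/
theorem aut_trivial (h2 : (2 : K) ≠ 0) (g : Kˣ) (hg : ∀ x : Kˣ, x ∈ Subgroup.zpowers g) (σ : K ≃+* K)
    (hσ : σ ((g : K) ^ 2) = (g : K) ^ 2) : ∀ x, σ x = x := by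
  have hsq : ∀ x : K, σ (x ^ 2) = x ^ 2 := by
    intro x
    rcases eq_or_ne x 0 with rfl | hx
    · simp
    obtain ⟨k, hk⟩ := Subgroup.mem_zpowers_iff.1 (hg (Units.mk0 x hx))
    have h1 : x = (g : K) ^ k := by
      have := congrArg (fun u : Kˣ => (u : K)) hk
      simpa using this.symm
    have h3 : x ^ 2 = ((g : K) ^ 2) ^ k := by
      rw [h1, ← zpow_natCast, ← zpow_natCast, ← zpow_mul, ← zpow_mul, mul_comm]
    rw [h3, map_zpow₀, hσ]
  intro x
  have h4 : x = ((x + 1) / 2) ^ 2 - ((x - 1) / 2) ^ 2 := by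
    field_simp
    ring
  rw [h4, map_sub, hsq, hsq]

/-- the vector of the construction -/
theorem exists_vec (K : Type*) [Field K] [Finite K] (h2 : (2 : K) ≠ 0) :
    ∃ a : Fin 5 → K, (∀ i, a i ≠ 0) ∧ (∀ σ : K ≃+* K, σ ((a 0) ^ 2) = (a 0) ^ 2 → ∀ x, σ x = x) ∧
      (a 0 ^ 2 + a 1 ^ 2 + a 2 ^ 2 + a 3 ^ 2 + a 4 ^ 2 = 1 ∨
        2 * (a 0 ^ 2 + a 1 ^ 2 + a 2 ^ 2 + a 3 ^ 2 + a 4 ^ 2) = 1) := by
  classical
  haveI : Fintype K := Fintype.ofFinite K
  obtain ⟨g, hg⟩ := IsCyclic.exists_generator (α := Kˣ)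
  have hord : orderOf g = Fintype.card K - 1 := by
    rw [orderOf_eq_card_of_forall_mem_zpowers hg, Nat.card_eq_fintype_card, Fintype.card_units]
  have haut : ∀ σ : K ≃+* K, σ ((g : K) ^ 2) = (g : K) ^ 2 → ∀ x, σ x = x :=
    fun σ hσ => aut_trivial h2 g hg σ hσ
  have hg0 : (g : K) ≠ 0 := g.ne_zero
  have hodd : Fintype.card K % 2 = 1 := by
    refine FiniteField.odd_card_of_char_ne_two ?_
    intro hc
    apply h2
    have := ringChar.Nat.cast_ringChar (R := K)
    rw [hc] at this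
    exact_mod_cast this
  have hcard : 2 ≤ Fintype.card K := Fintype.one_lt_card
  have hg2 : Fintype.card K ≠ 3 → (g : K) ^ 2 ≠ 1 := by
    intro hne h
    have h1 : g ^ 2 = 1 := by
      ext
      simpa using h
    have h3 := Nat.le_of_dvd (by norm_num) (orderOf_dvd_of_pow_eq_one h1)
    omega
  by_cases h3 : Fintype.card K = 3
  · refine ⟨fun _ => (1 : K), fun _ => one_ne_zero, ?_, Or.inr ?_⟩
    · intro σ _
      apply haut
      have h1 : g ^ 2 = 1 := by
        rw [← orderOf_dvd_iff_pow_eq_one, hord, h3]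
      have h4 : (g : K) ^ 2 = 1 := by
        have := congrArg (fun u : Kˣ => (u : K)) h1
        simpa using this
      rw [h4, map_one]
    · have h4 : (3 : K) = 0 := by
        have := Nat.cast_card_eq_zero K
        rw [h3] at this
        exact_mod_cast this
      linear_combination 3 * h4
  by_cases h5 : Fintype.card K = 5
  · have h4 : (5 : K) = 0 := by
      have := Nat.cast_card_eq_zero K
      rw [h5] at this
      exact_mod_cast this
    have h6 : (g : K) ^ 4 = 1 := by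
      have h1 : g ^ 4 = 1 := by
        rw [← orderOf_dvd_iff_pow_eq_one, hord, h5]
      have := congrArg (fun u : Kˣ => (u : K)) h1
      simpa using this
    have h7 : (g : K) ^ 2 = -1 := by
      have h8 : ((g : K) ^ 2 - 1) * ((g : K) ^ 2 + 1) = 0 := by linear_combination h6
      rcases mul_eq_zero.1 h8 with h | h
      · exact absurd (sub_eq_zero.1 h) (hg2 h3)
      · linear_combination h
    refine ⟨![g, g, 1, 1, 1], ?_, ?_, Or.inl ?_⟩
    · intro i
      fin_cases i <;> simp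
    · intro σ hσ
      exact haut σ (by simpa using hσ)
    · simp only [Matrix.cons_val]
      linear_combination 2 * h7
  -- the general case
  have hq : 7 ≤ Fintype.card K := by omega
  have hg4 : (g : K) ^ 4 ≠ 1 := by
    intro h
    have h1 : g ^ 4 = 1 := by
      ext
      simpa using h
    have h3 := Nat.le_of_dvd (by norm_num) (orderOf_dvd_of_pow_eq_one h1)
    omega
  have hp1 : 1 + (g : K) ^ 2 ≠ 0 := by
    intro h
    apply hg4
    linear_combination ((g : K) ^ 2 - 1) * h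
  have hm1 : 1 - (g : K) ^ 2 ≠ 0 := by
    intro h
    exact hg2 h3 (by linear_combination -h)
  obtain ⟨p, r, hp, hr, hpr⟩ : ∃ p r : K, p ≠ 0 ∧ r ≠ 0 ∧ p ^ 2 + r ^ 2 = 1 := by
    refine ⟨2 * g / (1 + g ^ 2), (1 - g ^ 2) / (1 + g ^ 2), ?_, ?_, ?_⟩
    · exact div_ne_zero (mul_ne_zero h2 hg0) hp1
    · exact div_ne_zero hm1 hp1
    · field_simp
      ring
  obtain ⟨c, d, hcd⟩ : ∃ c d : K, c ^ 2 + d ^ 2 = 1 - (g : K) ^ 2 := by
    obtain ⟨c, d, h⟩ := FiniteField.exists_root_sum_quadratic (R := K) (f := X ^ 2 - C (1 - (g : K) ^ 2))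
      (g := X ^ 2) (degree_X_pow_sub_C (by norm_num) _) (degree_X_pow 2) hodd
    refine ⟨c, d, ?_⟩
    simp only [eval_sub, eval_pow, eval_X, eval_C] at h
    linear_combination h
  have key : ∀ a1 a2 a3 a4 : K, a1 ≠ 0 → a2 ≠ 0 → a3 ≠ 0 → a4 ≠ 0 →
      a1 ^ 2 + a2 ^ 2 + a3 ^ 2 + a4 ^ 2 = 1 - (g : K) ^ 2 →
      ∃ a : Fin 5 → K, (∀ i, a i ≠ 0) ∧ (∀ σ : K ≃+* K, σ ((a 0) ^ 2) = (a 0) ^ 2 → ∀ x, σ x = x) ∧
      (a 0 ^ 2 + a 1 ^ 2 + a 2 ^ 2 + a 3 ^ 2 + a 4 ^ 2 = 1 ∨
        2 * (a 0 ^ 2 + a 1 ^ 2 + a 2 ^ 2 + a 3 ^ 2 + a 4 ^ 2) = 1) := by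
    intro a1 a2 a3 a4 h1 h2' h3' h4 hsum
    refine ⟨![g, a1, a2, a3, a4], ?_, ?_, Or.inl ?_⟩
    · intro i
      fin_cases i <;> simp [h1, h2', h3', h4]
    · intro σ hσ
      exact haut σ (by simpa using hσ)
    · simp only [Matrix.cons_val]
      linear_combination hsum
  rcases eq_or_ne c 0 with rfl | hc
  · have hd : d ≠ 0 := by
      rintro rfl
      apply hm1
      linear_combination -hcd
    refine key (d * p ^ 2) (d * (p * r)) (d * (p * r)) (d * r ^ 2) (by positivity) (by positivity) (by positivity)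
      (by positivity) ?_
    linear_combination d ^ 2 * (p ^ 2 + r ^ 2 + 1) * hpr + hcd
  rcases eq_or_ne d 0 with rfl | hd
  · refine key (c * p ^ 2) (c * (p * r)) (c * (p * r)) (c * r ^ 2) (by positivity) (by positivity) (by positivity)
      (by positivity) ?_
    linear_combination c ^ 2 * (p ^ 2 + r ^ 2 + 1) * hpr + hcd
  · refine key (c * p) (c * r) (d * p) (d * r) (by positivity) (by positivity) (by positivity) (by positivity) ?_
    linear_combination (c ^ 2 + d ^ 2) * hpr + hcd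

end Cfsg.Agent.H999.FC
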