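import Cfsg.Agent.H999.FC.Claim

/-!
# S5764, symplectic groups of dimension 4: the frame of five singular elements  (helper999)
-/

set_option autoImplicit false

namespace Cfsg.Agent.H999.FC

open Cfsg.Agent.H198.FC

universe u v

variable {K : Type u} [Field K] {V : Type v} [AddCommGroup V] [Module K V]

theorem assoc_neg {X Y : R K V} (h : X * Y = -(Y * X)) (Z : R K V) : X * (Y * Z) = -(Y * (X * Z)) := by
  rw [← mul_assoc, h, neg_mul, mul_assoc]

theorem assoc_comm {X Y : R K V} (h : X * Y = Y * X) (Z : R K V) : X * (Y * Z) = Y * (X * Z) := by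
  rw [← mul_assoc, h, mul_assoc]

theorem assoc_sq {X : R K V} {c : K} (h : X * X = c • (1 : R K V)) (Z : R K V) : X * (X * Z) = c • Z := by
  rw [← mul_assoc, h, smul_mul_assoc, one_mul]

/-- two commuting pairs of anticommuting lifts -/
structure Quad (A : Subgroup (Equiv.Perm (R K V))) (W T Z Z' : R K V) : Prop where
  lW : L A W
  lT : L A T
  lZ : L A Z
  lZ' : L A Z'
  WT : T * W = -(W * T)
  ZZ : Z' * Z = -(Z * Z')
  ZW : Z * W = W * Z
  ZT : Z * T = T * Z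
  ZW' : Z' * W = W * Z'
  ZT' : Z' * T = T * Z'

namespace Dat

variable {b : Cl K V} {S A : Subgroup (Equiv.Perm (R K V))}

theorem not_small (h : Dat b S A) (s : Finset (R K V)) (hs : s.card ≤ 4)
    (hL : ∀ X, L A X → X ∈ Submodule.span K (s : Set (R K V))) : False := by
  have := h.finV
  have h1 : Submodule.span K {X : R K V | ∃ x : (R K V)ˣ, (x : R K V) = X ∧ cj K V x ∈ A} ≤
      Submodule.span K (s : Set (R K V)) := Submodule.span_le.2 fun X hX => hL X hX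
  rw [h.span] at h1
  have h3 := Submodule.finrank_mono h1
  rw [finrank_top] at h3
  have h4 : Module.finrank K (R K V) = 16 := by
    rw [Module.finrank_linearMap, h.dim]
  have h5 : Module.finrank K (Submodule.span K (s : Set (R K V))) ≤ s.card := finrank_span_finset_le_card s
  omega

theorem exists_nonscalar (h : Dat b S A) : ∃ W, L A W ∧ ¬ Sc W := by
  classical
  by_contra hcon
  push Not at hcon
  refine h.not_small {1} (by simp) fun X hX => ?_
  obtain ⟨c, rfl⟩ := hcon X hX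
  exact Submodule.smul_mem _ _ (Submodule.subset_span (by simp))

theorem adjust (h : Dat b S A) {W T Y : R K V} (hW : L A W) (hT : L A T) (hWT : T * W = -(W * T)) (hY : L A Y) :
    ∃ P, (P = 1 ∨ P = W ∨ P = T ∨ P = W * T) ∧ (P * Y) * W = W * (P * Y) ∧ (P * Y) * T = T * (P * Y) := by
  rcases h.L_comm hY hW with h1 | h1 <;> rcases h.L_comm hY hT with h3 | h3
  · exact ⟨1, Or.inl rfl, by rw [one_mul, h1], by rw [one_mul, h3]⟩
  · refine ⟨W, Or.inr (Or.inl rfl), ?_, ?_⟩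
    · simp only [mul_assoc, h1]
    · simp only [mul_assoc, h3, mul_neg, assoc_neg hWT]
  · refine ⟨T, Or.inr (Or.inr (Or.inl rfl)), ?_, ?_⟩
    · simp only [mul_assoc, h1, mul_neg, assoc_neg hWT, neg_neg]
    · simp only [mul_assoc, h3]
  · refine ⟨W * T, Or.inr (Or.inr (Or.inr rfl)), ?_, ?_⟩
    · simp only [mul_assoc, h1, mul_neg, assoc_neg hWT, neg_neg]
    · simp only [mul_assoc, h3, mul_neg, assoc_neg hWT]

theorem L_P {W T P : R K V} (hW : L A W) (hT : L A T) (hP : P = 1 ∨ P = W ∨ P = T ∨ P = W * T) : L A P := by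
  rcases hP with rfl | rfl | rfl | rfl
  · exact L_one
  · exact hW
  · exact hT
  · exact L_mul hW hT

theorem comm_P {W T P Y : R K V} (h1 : Y * W = W * Y) (h3 : Y * T = T * Y) (hP : P = 1 ∨ P = W ∨ P = T ∨ P = W * T) :
    Y * P = P * Y := by
  rcases hP with rfl | rfl | rfl | rfl
  · rw [mul_one, one_mul]
  · exact h1
  · exact h3
  · rw [← mul_assoc, h1, mul_assoc, h3, mul_assoc]

theorem exists_quad (h : Dat b S A) : ∃ W T Z Z' : R K V, Quad A W T Z Z' := by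
  classical
  obtain ⟨W, hW, sW⟩ := h.exists_nonscalar
  obtain ⟨T, hT, hWT⟩ := h.exists_anti hW sW
  -- a non-scalar element commuting with `W` and `T`
  obtain ⟨Z, hZ, sZ, hZW, hZT⟩ : ∃ Z, L A Z ∧ ¬ Sc Z ∧ Z * W = W * Z ∧ Z * T = T * Z := by
    by_contra hcon
    push Not at hcon
    refine h.not_small {1, W, T, W * T} Finset.card_le_four fun Y hY => ?_
    obtain ⟨P, hP, h1, h3⟩ := h.adjust hW hT hWT hY
    have hLP := L_P hW hT hP
    have h4 : Sc (P * Y) := by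
      by_contra hs
      exact hcon _ (L_mul hLP hY) hs h1 h3
    obtain ⟨c, hc⟩ := h4
    obtain ⟨π, hπ, hPP⟩ := h.L_sq hLP
    have h5 : π • Y = c • P := by
      rw [← assoc_sq hPP Y, hc, mul_smul_comm, mul_one]
    have h6 : Y = (π⁻¹ * c) • P := by rw [mul_smul, ← h5, smul_smul, inv_mul_cancel₀ hπ, one_smul]
    rw [h6]
    refine Submodule.smul_mem _ _ (Submodule.subset_span ?_)
    simpa using hP
  obtain ⟨T', hT', hTZ⟩ := h.exists_anti hZ sZ
  obtain ⟨P, hP, h1, h3⟩ := h.adjust hW hT hWT hT'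
  have h4 := comm_P hZW hZT hP
  refine ⟨W, T, Z, P * T', hW, hT, hZ, L_mul (L_P hW hT hP) hT', hWT, ?_, hZW, hZT, h1, h3⟩
  rw [mul_assoc, hTZ, mul_neg, ← mul_assoc, ← h4, mul_assoc]

theorem adj_neg_neg {X Y : R K V} (h1 : b.Adj X Y) (h3 : Y = X) : b.Adj X X := by rwa [h3] at h1

theorem pair_norm (h : Dat b S A) {W T : R K V} (hW : L A W) (hT : L A T) (hWT : T * W = -(W * T)) :
    ∃ W' T', L A W' ∧ L A T' ∧ T' * W' = -(W' * T') ∧
      (∀ Y, Y * W = W * Y → Y * T = T * Y → Y * W' = W' * Y ∧ Y * T' = T' * Y) ∧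
      ((b.Adj W' W' ∧ b.Adj T' T') ∨ (b.Adj W' (-W') ∧ b.Adj T' (-T'))) := by
  rcases h.L_adj hW with h1 | h1 <;> rcases h.L_adj hT with h3 | h3
  · exact ⟨W, T, hW, hT, hWT, fun Y a c => ⟨a, c⟩, Or.inl ⟨h1, h3⟩⟩
  · refine ⟨W, W * T, hW, L_mul hW hT, ?_, fun Y a c => ⟨a, comm_P a c (Or.inr (Or.inr (Or.inr rfl)))⟩,
      Or.inl ⟨h1, ?_⟩⟩
    · rw [mul_assoc, hWT, mul_neg]
    · refine adj_neg_neg (adj_mul h1 h3) ?_
      rw [neg_mul, hWT, neg_neg]
  · refine ⟨W * T, T, L_mul hW hT, hT, ?_, fun Y a c => ⟨comm_P a c (Or.inr (Or.inr (Or.inr rfl))), c⟩,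
      Or.inl ⟨?_, h3⟩⟩
    · rw [← mul_assoc, hWT, neg_mul]
    · refine adj_neg_neg (adj_mul h1 h3) ?_
      rw [mul_neg, hWT, neg_neg]
  · exact ⟨W, T, hW, hT, hWT, fun Y a c => ⟨a, c⟩, Or.inr ⟨h1, h3⟩⟩

theorem not_Sc_of_anti (h : Dat b S A) {X Y : R K V} (hX : L A X) (hY : L A Y) (h1 : Y * X = -(X * Y)) : ¬ Sc X :=
  fun hs => h.not_both hY hX (Sc_comm hs Y).symm h1

theorem exists_quad_norm (h : Dat b S A) : ∃ W T Z Z' : R K V, Quad A W T Z Z' ∧ b.Adj W W ∧ b.Adj T T ∧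
    b.Adj Z (-Z) ∧ b.Adj Z' (-Z') := by
  obtain ⟨W₀, T₀, Z₀, Z₀', q⟩ := h.exists_quad
  obtain ⟨W, T, hW, hT, hWT, cWT, aWT⟩ := h.pair_norm q.lW q.lT q.WT
  obtain ⟨Z, Z', hZ, hZ', hZZ, cZZ, aZZ⟩ := h.pair_norm q.lZ q.lZ' q.ZZ
  have c1 := cWT Z₀ q.ZW q.ZT
  have c2 := cWT Z₀' q.ZW' q.ZT'
  have c3 := cZZ W c1.1.symm c2.1.symm
  have c4 := cZZ T c1.2.symm c2.2.symm
  have sW : ¬ Sc W := h.not_Sc_of_anti hW hT hWT
  have sZ : ¬ Sc Z := h.not_Sc_of_anti hZ hZ' hZZ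
  rcases aWT with ⟨a1, a2⟩ | ⟨a1, a2⟩ <;> rcases aZZ with ⟨a3, a4⟩ | ⟨a3, a4⟩
  · exfalso
    rcases h.claim hW hZ sW a1 a3 c3.1 with h1 | ⟨c, rfl⟩
    · exact sZ h1
    · have hc : c ≠ 0 := by
        rintro rfl
        exact h.L_ne hZ (zero_smul _ _)
      have h3 := c4.1
      rw [mul_smul_comm, smul_mul_assoc] at h3
      exact h.not_both hT hW (smul_right_injective _ hc h3) hWT
  · exact ⟨W, T, Z, Z', ⟨hW, hT, hZ, hZ', hWT, hZZ, c3.1.symm, c4.1.symm, c3.2.symm, c4.2.symm⟩, a1, a2, a3, a4⟩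
  · refine ⟨Z, Z', W, T, ⟨hZ, hZ', hW, hT, hZZ, hWT, c3.1, c3.2, c4.1, c4.2⟩, a3, a4, a1, a2⟩
  · exfalso
    -- `W Z` and `T Z'` are self-adjoint and commute
    have b1 : b.Adj (W * Z) (W * Z) := by
      refine adj_neg_neg (adj_mul a1 a3) ?_
      rw [neg_mul_neg, c3.1]
    have b2 : b.Adj (T * Z') (T * Z') := by
      refine adj_neg_neg (adj_mul a2 a4) ?_
      rw [neg_mul_neg, c4.2]
    have b3 : W * Z * (T * Z') = T * Z' * (W * Z) := by
      simp only [mul_assoc, assoc_comm c4.1.symm, assoc_comm c3.2.symm, assoc_neg hWT, hZZ, mul_neg, neg_neg]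
    -- `W Z` anticommutes with `T`
    have b4 : T * (W * Z) = -(W * Z * T) := by
      rw [assoc_neg hWT, c4.1, mul_assoc]
    have b5 : T * (T * Z') = T * Z' * T := by
      rw [mul_assoc, c4.2]
    have lWZ := L_mul hW hZ
    have lTZ := L_mul hT hZ'
    rcases h.claim lWZ lTZ (h.not_Sc_of_anti lWZ hT b4) b1 b2 b3 with h1 | ⟨c, hc⟩
    · -- `T Z'` anticommutes with `W`
      have b6 : T * Z' * W = -(W * (T * Z')) := by
        rw [mul_assoc, ← c3.2, assoc_neg hWT]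
      exact h.not_both lTZ hW (Sc_comm h1 W) b6
    · have hc0 : c ≠ 0 := by
        rintro rfl
        rw [zero_smul] at hc
        exact h.L_ne lTZ hc
      rw [hc, mul_smul_comm, smul_mul_assoc] at b5
      exact h.not_both hT lWZ (smul_right_injective _ hc0 b5) b4

end Dat

end Cfsg.Agent.H999.FC
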