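import Cfsg.Agent.H999.FC.Quad

/-!
# S5764, symplectic groups of dimension 4: the frame of five singular elements  (helper999)
-/

set_option autoImplicit false

namespace Cfsg.Agent.H999.FC

open Cfsg.Agent.H198.FC

universe u v

variable {K : Type u} [Field K] {V : Type v} [AddCommGroup V] [Module K V]

/-- the frame before normalization -/
structure Pre (b : Cl K V) (A : Subgroup (Equiv.Perm (R K V))) (e : Fin 5 → R K V) : Prop where
  lift : ∀ i, L A (e i)
  anti : ∀ i j, i ≠ j → e i * e j = -(e j * e i)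
  adj : ∀ i, b.Adj (e i) (e i)
  prod : ∃ κ : K, κ ≠ 0 ∧ e 0 * e 1 * e 2 * e 3 * e 4 = κ • (1 : R K V)
  gen : ∀ f ∈ RP K V, (∀ (c : K) (X : R K V), f (c • X) = c • f X) → (∀ i, f (e i) = e i) → f = 1

namespace Dat

variable {b : Cl K V} {S A : Subgroup (Equiv.Perm (R K V))}

/-- a lift commuting with the four generators is scalar -/
theorem quad_Sc (h : Dat b S A) {W T Z Z' : R K V} (q : Quad A W T Z Z') (aW : b.Adj W W) (aZ : b.Adj Z (-Z))
    {Y : R K V} (hY : L A Y) (h1 : Y * W = W * Y) (h2 : Y * T = T * Y) (h3 : Y * Z = Z * Y) (h4 : Y * Z' = Z' * Y) :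
    Sc Y := by
  by_contra sY
  have sW : ¬ Sc W := h.not_Sc_of_anti q.lW q.lT q.WT
  rcases h.L_adj hY with hy | hy
  · rcases h.claim q.lW hY sW aW hy h1.symm with h5 | ⟨c, hc⟩
    · exact sY h5
    · have hc0 : c ≠ 0 := by
        rintro rfl
        exact h.L_ne hY (by rw [hc, zero_smul])
      rw [hc, smul_mul_assoc, mul_smul_comm] at h2
      exact h.not_both q.lT q.lW (smul_right_injective _ hc0 h2).symm q.WT
  · have b1 : b.Adj (Y * Z) (Y * Z) := by
      refine adj_neg_neg (adj_mul hy aZ) ?_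
      rw [neg_mul_neg, h3]
    have lYZ := L_mul hY q.lZ
    have b2 : W * (Y * Z) = Y * Z * W := by
      rw [mul_assoc, q.ZW, ← mul_assoc, ← h1, mul_assoc]
    rcases h.claim q.lW lYZ sW aW b1 b2 with h5 | ⟨c, hc⟩
    · -- `Y Z` scalar
      have b3 : Z' * (Y * Z) = -(Y * Z * Z') := by
        rw [← mul_assoc, ← h4, mul_assoc, q.ZZ, mul_neg, mul_assoc]
      exact h.not_both q.lZ' lYZ (Sc_comm h5 Z').symm b3
    · have hc0 : c ≠ 0 := by
        rintro rfl
        exact h.L_ne lYZ (by rw [hc, zero_smul])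
      have b3 : T * (Y * Z) = Y * Z * T := by
        rw [mul_assoc, q.ZT, ← mul_assoc, ← h2, mul_assoc]
      rw [hc, smul_mul_assoc, mul_smul_comm] at b3
      exact h.not_both q.lT q.lW (smul_right_injective _ hc0 b3) q.WT

/-- every lift is a multiple of a product of the four generators; so an automorphism fixing them is trivial -/
theorem quad_gen (h : Dat b S A) {W T Z Z' : R K V} (q : Quad A W T Z Z') (aW : b.Adj W W) (aZ : b.Adj Z (-Z))
    {f : Equiv.Perm (R K V)} (hf : f ∈ RP K V) (hlin : ∀ (c : K) (X : R K V), f (c • X) = c • f X)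
    (f1 : f W = W) (f2 : f T = T) (f3 : f Z = Z) (f4 : f Z' = Z') : f = 1 := by
  have hL : ∀ Y, L A Y → f Y = Y := by
    intro Y hY
    obtain ⟨P, hP, p1, p2⟩ := h.adjust q.lW q.lT q.WT hY
    have lP := L_P q.lW q.lT hP
    have lPY := L_mul lP hY
    obtain ⟨P', hP', p3, p4⟩ := h.adjust q.lZ q.lZ' q.ZZ lPY
    have lP' := L_P q.lZ q.lZ' hP'
    have c1 := comm_P q.ZW.symm q.ZW'.symm hP'
    have c2 := comm_P q.ZT.symm q.ZT'.symm hP'
    have hs : Sc (P' * (P * Y)) := by
      refine h.quad_Sc q aW aZ (L_mul lP' lPY) ?_ ?_ p3 p4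
      · rw [mul_assoc, p1, ← mul_assoc, ← c1, mul_assoc]
      · rw [mul_assoc, p2, ← mul_assoc, ← c2, mul_assoc]
    obtain ⟨c, hc⟩ := hs
    have fP : f P = P := by
      rcases hP with rfl | rfl | rfl | rfl
      · exact RP_one hf
      · exact f1
      · exact f2
      · rw [hf.2, f1, f2]
    have fP' : f P' = P' := by
      rcases hP' with rfl | rfl | rfl | rfl
      · exact RP_one hf
      · exact f3
      · exact f4
      · rw [hf.2, f3, f4]
    have h5 : P' * (P * f Y) = P' * (P * Y) := by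
      have h6 : f (P' * (P * Y)) = P' * (P * f Y) := by rw [hf.2, hf.2, fP, fP']
      rw [← h6, hc, hlin, RP_one hf]
    obtain ⟨π, hπ, hPP⟩ := h.L_sq lP
    obtain ⟨π', hπ', hPP'⟩ := h.L_sq lP'
    have h6 := congrArg (fun X => P * (P' * X)) h5
    simp only [assoc_sq hPP', mul_smul_comm, assoc_sq hPP, smul_smul] at h6
    exact smul_right_injective _ (mul_ne_zero hπ' hπ) h6
  -- the fixed points form a subspace
  let M : Submodule K (R K V) :=
    { carrier := {Y | f Y = Y}
      zero_mem' := RP_zero hf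
      add_mem' := fun {Y Y'} hY hY' => by
        simp only [Set.mem_ofPred_eq] at *
        rw [hf.1, hY, hY']
      smul_mem' := fun c Y hY => by
        simp only [Set.mem_ofPred_eq] at *
        rw [hlin, hY] }
  have h1 : Submodule.span K {X : R K V | ∃ x : (R K V)ˣ, (x : R K V) = X ∧ cj K V x ∈ A} ≤ M :=
    Submodule.span_le.2 fun X hX => hL X hX
  rw [h.span] at h1
  apply Equiv.ext
  intro Y
  exact h1 (Submodule.mem_top (x := Y))

theorem exists_pre (h : Dat b S A) : ∃ e, Pre b A e := by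
  have := h.nontriv
  obtain ⟨W, T, Z, Z', q, aW, aT, aZ, aZ'⟩ := h.exists_quad_norm
  obtain ⟨w, hw, hWW⟩ := h.L_sq q.lW
  obtain ⟨t, ht, hTT⟩ := h.L_sq q.lT
  obtain ⟨z, hz, hZZ⟩ := h.L_sq q.lZ
  obtain ⟨z', hz', hZZ'⟩ := h.L_sq q.lZ'
  have r1 := assoc_neg q.WT
  have r2 := assoc_neg q.ZZ
  have r3 := assoc_comm q.ZW
  have r4 := assoc_comm q.ZT
  have r5 := assoc_comm q.ZW'
  have r6 := assoc_comm q.ZT'
  have s1 := assoc_sq hWW
  have s2 := assoc_sq hTT
  have s3 := assoc_sq hZZ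
  have s4 := assoc_sq hZZ'
  have q1 := q.WT
  have q2 := q.ZZ
  have q3 := q.ZW
  have q4 := q.ZT
  have q5 := q.ZW'
  have q6 := q.ZT'
  refine ⟨![W, T, W * T * Z, W * T * Z', W * T * (Z * Z')], ⟨?_, ?_, ?_, ?_, ?_⟩⟩
  · intro i
    fin_cases i
    · exact q.lW
    · exact q.lT
    · exact L_mul (L_mul q.lW q.lT) q.lZ
    · exact L_mul (L_mul q.lW q.lT) q.lZ'
    · exact L_mul (L_mul q.lW q.lT) (L_mul q.lZ q.lZ')
  · intro i j hij
    fin_cases i <;> fin_cases j <;> first
      | exact absurd rfl hij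
      | (simp only [Fin.zero_eta, Fin.mk_one, Fin.reduceFinMk, Matrix.cons_val, Matrix.cons_val_zero,
          Matrix.cons_val_one, mul_assoc, q1, q2, q3, q4, q5, q6, r1, r2, r3, r4, r5, r6, s1, s2, s3, s4, mul_neg,
          neg_neg, mul_smul_comm, smul_neg, smul_smul, hWW, hTT, hZZ, hZZ', mul_one, neg_inj]
         try module)
  · intro i
    fin_cases i
    · exact aW
    · exact aT
    · change b.Adj (W * T * Z) (W * T * Z)
      refine adj_neg_neg (adj_mul (adj_mul aW aT) aZ) ?_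
      simp only [mul_assoc, q1, q3, q4, r1, r3, r4, mul_neg, neg_mul, neg_neg]
    · change b.Adj (W * T * Z') (W * T * Z')
      refine adj_neg_neg (adj_mul (adj_mul aW aT) aZ') ?_
      simp only [mul_assoc, q1, q5, q6, r1, r5, r6, mul_neg, neg_mul, neg_neg]
    · change b.Adj (W * T * (Z * Z')) (W * T * (Z * Z'))
      refine adj_neg_neg (adj_mul (adj_mul aW aT) (adj_mul aZ aZ')) ?_
      simp only [mul_assoc, q1, q2, q3, q4, q5, q6, r1, r2, r3, r4, r5, r6, mul_neg, neg_mul, neg_neg]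
  · have hex : ∃ κ : K, ((![W, T, W * T * Z, W * T * Z', W * T * (Z * Z')] : Fin 5 → R K V) 0) *
        ((![W, T, W * T * Z, W * T * Z', W * T * (Z * Z')] : Fin 5 → R K V) 1) *
        ((![W, T, W * T * Z, W * T * Z', W * T * (Z * Z')] : Fin 5 → R K V) 2) *
        ((![W, T, W * T * Z, W * T * Z', W * T * (Z * Z')] : Fin 5 → R K V) 3) *
        ((![W, T, W * T * Z, W * T * Z', W * T * (Z * Z')] : Fin 5 → R K V) 4) = κ • (1 : R K V) := by
      refine ⟨-(w * t * (w * t) * (z * z')), ?_⟩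
      simp only [Fin.isValue, Matrix.cons_val, Matrix.cons_val_zero,
          Matrix.cons_val_one, mul_assoc, q1, q2, q3, q4, q5, q6, r1, r2, r3, r4, r5, r6, s1, s2, s3, s4, mul_neg,
          neg_neg, neg_mul, smul_mul_assoc, mul_smul_comm, smul_neg, smul_smul, hWW, hTT, hZZ, hZZ', mul_one]
      module
    obtain ⟨κ, hκ⟩ := hex
    refine ⟨κ, ?_, hκ⟩
    rintro rfl
    rw [zero_smul] at hκ
    refine h.L_ne ?_ hκ
    refine L_mul (L_mul (L_mul (L_mul q.lW q.lT) ?_) ?_) ?_
    · exact L_mul (L_mul q.lW q.lT) q.lZ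
    · exact L_mul (L_mul q.lW q.lT) q.lZ'
    · exact L_mul (L_mul q.lW q.lT) (L_mul q.lZ q.lZ')
  · intro f hf hlin hfe
    have f1 : f W = W := hfe 0
    have f2 : f T = T := hfe 1
    have cancel : ∀ X, f (W * T * X) = W * T * X → f X = X := by
      intro X hX
      rw [hf.2, hf.2, f1, f2, mul_assoc, mul_assoc] at hX
      have h5 := congrArg (fun X => T * (W * X)) hX
      simp only [s1, mul_smul_comm, s2, smul_smul] at h5
      exact smul_right_injective _ (mul_ne_zero hw ht) h5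
    exact h.quad_gen q aW aZ hf hlin f1 f2 (cancel Z (hfe 2)) (cancel Z' (hfe 3))

end Dat

end Cfsg.Agent.H999.FC
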