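import Cfsg.Agent.H999.FC.Act
import Cfsg.Agent.H786.FC.Parts

/-!
# S5764, `StmtBC6` for the symplectic groups of dimension 4  (helper999)
-/

set_option autoImplicit false

namespace Cfsg.Agent.H999.FC

open Cfsg.Agent.H198.FC

universe u v

variable {K : Type u} [Field K] {V : Type v} [AddCommGroup V] [Module K V]

namespace Dat

variable {b : Cl K V} {S A : Subgroup (Equiv.Perm (R K V))} {e : Fin 5 → R K V}

/-- the squares of the frame are squares in `K` -/
theorem squares [Finite K] (h : Dat b S A) (p : Pre b A e) :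
    ∀ i, ∃ s : K, s ≠ 0 ∧ e i * e i = (s * s) • (1 : R K V) := by
  classical
  have := h.nontriv
  have : Fintype K := Fintype.ofFinite K
  choose ν hν hsq using fun i => h.L_sq (p.lift i)
  have h1 : ∀ i, IsSquare (ν i) ↔ IsSquare (ν 0) := by
    intro i
    obtain ⟨f, hf, d, hd⟩ := h.trans p i 0
    have hfP := (h.SRB hf).1
    obtain ⟨σ, hσ⟩ := exists_sigma' hfP
    have hd0 : d ≠ 0 := by
      rintro rfl
      rw [zero_smul] at hd
      exact f_ne hfP (h.e_ne p i) hd
    have h3 : σ (ν i) = d * d * ν 0 := by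
      have h4 : f (e i * e i) = f (e i) * f (e i) := hfP.2 _ _
      rw [hsq, hσ, RP_one hfP, hd, smul_mul_assoc, mul_smul_comm, hsq, smul_smul, smul_smul] at h4
      exact smul_left_injective K one_ne_zero' h4
    constructor
    · rintro ⟨r, hr⟩
      refine ⟨d⁻¹ * σ r, ?_⟩
      have h5 : ν 0 = (d * d)⁻¹ * σ (ν i) := by
        rw [h3]
        field_simp
      rw [h5, hr, map_mul]
      field_simp
    · rintro ⟨r, hr⟩
      refine ⟨σ.symm (d * r), ?_⟩
      apply σ.injective
      rw [h3, hr, map_mul, RingEquiv.apply_symm_apply]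
      ring
  have h0 : IsSquare (ν 0) := by
    by_contra hns
    obtain ⟨κ, hκ, hprod⟩ := p.prod
    -- the square of the product
    have a : ∀ i j, i ≠ j → e i * e j = -(e j * e i) := p.anti
    have a' : ∀ i j, i ≠ j → ∀ X, e i * (e j * X) = -(e j * (e i * X)) := fun i j hij X => assoc_neg (a i j hij) X
    have s' : ∀ i X, e i * (e i * X) = ν i • X := fun i X => assoc_sq (hsq i) X
    have h3 : κ * κ = ν 0 * (ν 1 * (ν 2 * (ν 3 * ν 4))) := by
      have h4 : (e 0 * e 1 * e 2 * e 3 * e 4) * (e 0 * e 1 * e 2 * e 3 * e 4) =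
          (ν 0 * (ν 1 * (ν 2 * (ν 3 * ν 4)))) • (1 : R K V) := by
        simp only [mul_assoc, a' 4 0 (by decide), a' 3 0 (by decide), a' 2 0 (by decide), a' 1 0 (by decide),
          a' 4 1 (by decide), a' 3 1 (by decide), a' 2 1 (by decide), a' 4 2 (by decide), a' 3 2 (by decide),
          a' 4 3 (by decide), mul_neg, neg_neg, hsq, mul_smul_comm, smul_neg, smul_smul, mul_one]
        module
      rw [hprod, smul_mul_assoc, mul_smul_comm, mul_one, smul_smul] at h4
      exact smul_left_injective K one_ne_zero' h4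
    have hq : ∀ i, quadraticChar K (ν i) = -1 := fun i =>
      quadraticChar_neg_one_iff_not_isSquare.2 fun hi => hns ((h1 i).1 hi)
    have h5 := congrArg (quadraticChar K) h3
    rw [map_mul, map_mul, map_mul, map_mul, map_mul, hq, hq, hq, hq, hq, ← map_mul, ← pow_two,
      quadraticChar_sq_one' hκ] at h5
    norm_num at h5
  intro i
  obtain ⟨s, hs⟩ := (h1 i).2 h0
  refine ⟨s, ?_, by rw [hsq, hs]⟩
  rintro rfl
  rw [zero_mul] at hs
  exact hν i hs

theorem five [Finite K] (h : Dat b S A) (hsol : Group.IsSolvable S) : FiveB b S := by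
  have := h.nontriv
  have := h.finV
  obtain ⟨e, p⟩ := h.exists_pre
  choose s hs0 hs using h.squares p
  obtain ⟨κ, hκ, hprod⟩ := p.prod
  obtain ⟨e', he'⟩ : ∃ e' : Fin 5 → R K V, ∀ i, e' i = (s i)⁻¹ • e i := ⟨fun i => (s i)⁻¹ • e i, fun _ => rfl⟩
  have hee : ∀ i, e i = s i • e' i := fun i => by rw [he', smul_smul, mul_inv_cancel₀ (hs0 i), one_smul]
  have hconv : ∀ f ∈ RP K V, ∀ i j, (∃ d : K, f (e' i) = d • e' j) ↔ ∃ d : K, f (e i) = d • e j := by
    intro f hf i j
    obtain ⟨σ, hσ⟩ := exists_sigma' hf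
    constructor
    · rintro ⟨d, hd⟩
      exact ⟨σ (s i) * (d * (s j)⁻¹), by rw [hee i, hσ, hd, he' j, smul_smul, smul_smul, mul_assoc]⟩
    · rintro ⟨d, hd⟩
      exact ⟨σ (s i)⁻¹ * (d * s j), by rw [he' i, hσ, hd, hee j, smul_smul, smul_smul, mul_assoc]⟩
  refine five_of_frame (e := e') h.two b h.sp h.dim h.SRB ⟨fun i => ?_, fun i j hij => ?_⟩ (fun i => ?_)
    (fun f hf => ?_) (fun f hf π hπ h0 h1 h2 => ?_)
    (κ := (s 0)⁻¹ * ((s 1)⁻¹ * ((s 2)⁻¹ * ((s 3)⁻¹ * ((s 4)⁻¹ * κ))))) ?_ ?_ (fun f hf hlin hfe => ?_)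
  · rw [he', smul_mul_assoc, mul_smul_comm, hs, smul_smul, smul_smul]
    have h0 := hs0 i
    rw [show (s i)⁻¹ * (s i)⁻¹ * (s i * s i) = 1 by field_simp, one_smul]
  · rw [he', he', smul_mul_assoc, mul_smul_comm, p.anti i j hij, smul_neg, smul_neg, smul_mul_assoc, mul_smul_comm,
      smul_comm]
  · rw [he']
    exact adj_smul h.sp _ (p.adj i)
  · obtain ⟨π, hπ⟩ := h.perm p hf
    exact ⟨π, fun i => (hconv f (h.SRB hf).1 i _).2 (hπ i)⟩
  · exact h.no_swap p hsol hf (fun i => (hconv f (h.SRB hf).1 i _).1 (hπ i)) h0 h1 h2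
  · have h0 := hs0 0
    have h1 := hs0 1
    have h2 := hs0 2
    have h3 := hs0 3
    have h4 := hs0 4
    positivity
  · rw [he', he', he', he', he']
    simp only [smul_mul_assoc, mul_smul_comm, hprod, smul_smul]
    congr 1
    ring
  · refine p.gen f hf hlin fun i => ?_
    rw [hee, hlin, hfe]

end Dat

/-- 5397: **extraspecial type normalizers in symplectic groups of dimension 4** -/
theorem stmtBC6_sp4 : H786.FC.StmtBC6On.{u, v} false fun n => n = 4 := by
  intro K _ _ V _ _ _ b hk _ h4 S hS hsol A r a hA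
  obtain ⟨hr, ha, hdim, hAS, hAI, hcard, hpow, hcomm, hspan, hnorm, hmin⟩ := hA
  have hsp : b.IsSp := hk.2 rfl
  have h4' : Module.finrank K V = 4 := h4
  have hr2 : r = 2 := by
    have h2 : (2 : ℕ) ∣ r ^ a := by rw [← hdim, h4']; norm_num
    exact ((Nat.prime_dvd_prime_iff_eq Nat.prime_two hr).1 (Nat.prime_two.dvd_of_dvd_pow h2)).symm
  subst hr2
  have : Nontrivial V := Module.nontrivial_of_finrank_pos (R := K) (by rw [h4']; norm_num)
  -- the characteristic is odd
  have h2 : (2 : K) ≠ 0 := by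
    intro h2
    -- all lifts commute
    have hLL : ∀ x y : (R K V)ˣ, cj K V x ∈ A → cj K V y ∈ A → (x : R K V) * y = y * x := by
      intro x y hx hy
      have central : ∀ z : (R K V)ˣ, cj K V z = 1 → Sc (z : R K V) := by
        intro z hz
        refine H277.FC.exists_smul_one _ fun Y => ?_
        have h1 := congrArg (fun f : Equiv.Perm (R K V) => f Y) hz
        simp only [cj_apply, Equiv.Perm.one_apply] at h1
        calc (z : R K V) * Y = (z : R K V) * Y * (z⁻¹ : (R K V)ˣ) * z := by
              rw [mul_assoc _ _ (z : R K V), Units.inv_mul, mul_one]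
          _ = Y * z := by rw [h1]
      obtain ⟨ν, hν⟩ : Sc ((x * x : (R K V)ˣ) : R K V) := by
        apply central
        have := hpow _ hx
        rwa [pow_two, ← map_mul] at this
      obtain ⟨c, hc⟩ : Sc ((x * y * (y * x)⁻¹ : (R K V)ˣ) : R K V) := by
        apply central
        rw [map_mul, map_inv, map_mul, map_mul, hcomm _ hx _ hy, mul_inv_cancel]
      rw [Units.val_mul] at hν
      have hν0 : ν ≠ 0 := by
        rintro rfl
        rw [zero_smul] at hν
        exact (x * x).ne_zero (by rw [Units.val_mul]; exact hν)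
      have h3 : (x : R K V) * y = c • ((y : R K V) * x) := by
        have : ((x * y * (y * x)⁻¹ : (R K V)ˣ) : R K V) * ((y : R K V) * x) = x * y := by
          rw [← Units.val_mul, ← Units.val_mul, mul_assoc, inv_mul_cancel, mul_one, Units.val_mul]
        rw [← this, hc, smul_mul_assoc, one_mul]
      have h4 : (x : R K V) * x * y = (c * c) • ((y : R K V) * (x * x)) := by
        rw [mul_assoc, h3, mul_smul_comm, ← mul_assoc, h3, smul_mul_assoc, smul_smul, mul_assoc]
      rw [hν, smul_mul_assoc, one_mul, mul_smul_comm, mul_one, smul_smul] at h4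
      have h5 : ν = c * c * ν := smul_left_injective K y.ne_zero h4
      have h6 : (c - 1) * (c - 1) * ν = 0 := by linear_combination -h5 + (1 - c) * ν * h2
      have h7 : c = 1 := by
        rcases mul_eq_zero.1 h6 with h7 | h7
        · rcases mul_eq_zero.1 h7 with h8 | h8 <;> exact sub_eq_zero.1 h8
        · exact absurd h7 hν0
      rw [h3, h7, one_smul]
    -- so `R` is commutative
    have hRc : ∀ X Y : R K V, X * Y = Y * X := by
      have hA1 : ∀ x : (R K V)ˣ, cj K V x ∈ A → ∀ Y : R K V, (x : R K V) * Y = Y * x := by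
        intro x hx Y
        have hY : Y ∈ Submodule.span K {X : R K V | ∃ x : (R K V)ˣ, (x : R K V) = X ∧ cj K V x ∈ A} := by
          rw [hspan]; trivial
        refine Submodule.span_induction (p := fun Y _ => (x : R K V) * Y = Y * x) ?_ ?_ ?_ ?_ hY
        · rintro _ ⟨y, rfl, hy⟩
          exact hLL x y hx hy
        · rw [mul_zero, zero_mul]
        · intro Y Y' _ _ h1 h3
          rw [mul_add, add_mul, h1, h3]
        · intro c Y _ h1
          rw [mul_smul_comm, smul_mul_assoc, h1]
      intro X Y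
      have hX : X ∈ Submodule.span K {X : R K V | ∃ x : (R K V)ˣ, (x : R K V) = X ∧ cj K V x ∈ A} := by
        rw [hspan]; trivial
      refine Submodule.span_induction (p := fun X _ => X * Y = Y * X) ?_ ?_ ?_ ?_ hX
      · rintro _ ⟨x, rfl, hx⟩
        exact hA1 x hx Y
      · rw [mul_zero, zero_mul]
      · intro X X' _ _ h1 h3
        rw [mul_add, add_mul, h1, h3]
      · intro c X _ h1
        rw [mul_smul_comm, smul_mul_assoc, h1]
    have hall : ∀ X : R K V, Sc X := fun X => H277.FC.exists_smul_one X fun Y => hRc X Y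
    have h5 : Module.finrank K (R K V) ≤ 1 := by
      refine finrank_le_one (1 : R K V) fun X => ?_
      obtain ⟨c, hc⟩ := hall X
      exact ⟨c, hc.symm⟩
    rw [Module.finrank_linearMap, h4'] at h5
    omega
  exact Dat.five ⟨hsp, h4', h2, hS, hAS, hAI, hpow, hcomm, hspan, hnorm, hmin⟩ hsol

end Cfsg.Agent.H999.FC
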